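import Cfsg.Agent.Lib.StrongCrit.ConsumerS1174
import Cfsg.Agent.Lib.PLocal.Thompson
import Cfsg.Prelude.Def_CaseTheorems

/-!
A strongly closed 2-subgroup `S` with the centralizers of its elements and the normalizer of `Ω₁(S)`
in a proper subgroup `H`: first consequences.
-/

set_option autoImplicit false
set_option linter.style.haveILetI false

namespace CfsgLib.StrongClosed75

open CfsgLib.Involutions Subgroup CfsgLib.StrongCrit

universe u

variable {G : Type u} [Group G]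

/-- The hypotheses on `S` and `H`. -/
structure Cfg (T : Sylow 2 G) (S H : Subgroup G) : Prop where
  closed : Cfsg.IsStronglyClosed S (T : Subgroup G)
  ne : S ≠ ⊥
  top : H ≠ ⊤
  cent : ∀ s ∈ S, s ≠ 1 → centralizer ({s} : Set G) ≤ H
  norm : normalizer ((Cfsg.omegaOne 2 S : Subgroup G) : Set G) ≤ H

theorem ne_one_of_invol {x : G} (hx : orderOf x = 2) : x ≠ 1 := fun e => by simp [e] at hx

/-- Two 2-elements in one coset of a normal subgroup of odd order are conjugate by an element of it. -/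
theorem exists_conj_eq [Finite G] {N : Subgroup G} [N.Normal] (hN : Odd (Nat.card N)) {x y : G}
    (hx : IsPGroup 2 (zpowers x)) (hy : IsPGroup 2 (zpowers y)) (h : y⁻¹ * x ∈ N) :
    ∃ n ∈ N, n * x * n⁻¹ = y := by
  haveI : Fact (Nat.Prime 2) := ⟨Nat.prime_two⟩
  set K := N ⊔ zpowers y with hK
  have hyK : zpowers y ≤ K := le_sup_right
  have hxK : zpowers x ≤ K := by
    rw [zpowers_le, show x = y * (y⁻¹ * x) by group]
    exact mul_mem (hyK (mem_zpowers y)) (le_sup_left (a := N) h)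
  -- `zpowers y` is a Sylow subgroup of `K`
  obtain ⟨P, hP⟩ := (hy.comap_subtype (K := K)).exists_le_sylow
  have hdisj : N ⊓ zpowers y = ⊥ := Subgroup.inf_eq_bot_of_coprime (by
    obtain ⟨k, hk⟩ := hy.exists_card_eq
    rw [hk]
    exact (Nat.Coprime.pow_left k (Nat.coprime_two_left.2 hN)).symm)
  have hPy : ∀ p : K, p ∈ (P : Subgroup K) → (p : G) ∈ zpowers y := by
    intro p hp
    obtain ⟨n, hn, w, hw, e⟩ := Subgroup.mem_sup_of_normal_left.1 p.2
    have hwP : (⟨w, hyK hw⟩ : K) ∈ (P : Subgroup K) := hP (show (⟨w, hyK hw⟩ : K) ∈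
      (zpowers y).comap K.subtype from hw)
    have hnP : (⟨n, le_sup_left (a := N) hn⟩ : K) ∈ (P : Subgroup K) := by
      have : (⟨n, le_sup_left (a := N) hn⟩ : K) = p * (⟨w, hyK hw⟩ : K)⁻¹ := Subtype.ext (by
        show n = (p : G) * w⁻¹
        rw [← e, mul_inv_cancel_right])
      rw [this]
      exact mul_mem hp (inv_mem hwP)
    obtain ⟨k, hk⟩ := IsPGroup.iff_orderOf.1 P.2 ⟨_, hnP⟩
    rw [← Subgroup.orderOf_coe, ← Subgroup.orderOf_coe] at hk
    have h1 : orderOf n = 1 := by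
      have hd : orderOf n ∣ Nat.card N := Subgroup.orderOf_dvd_natCard N hn
      have ho : Odd (orderOf n) := hN.of_dvd_nat hd
      rw [hk] at ho
      rcases Nat.eq_zero_or_pos k with rfl | hk0
      · simpa using hk
      · exact absurd ho (by simp [Nat.odd_pow_iff hk0.ne'])
    rw [orderOf_eq_one_iff.1 h1, one_mul] at e
    rwa [← e]
  obtain ⟨P', hP'⟩ := (hx.comap_subtype (K := K)).exists_le_sylow
  obtain ⟨g, hg⟩ := MulAction.exists_smul_eq K P' P
  have hgx : (g : G) * x * (g : G)⁻¹ ∈ zpowers y := by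
    refine hPy (g * ⟨x, hxK (mem_zpowers x)⟩ * g⁻¹) ?_
    rw [← hg, Sylow.coe_subgroup_smul]
    exact smul_mem_pointwise_smul _ _ _ (hP' (show (⟨x, hxK (mem_zpowers x)⟩ : K) ∈
      (zpowers x).comap K.subtype from mem_zpowers x))
  obtain ⟨w, hw, n, hn, e⟩ := Subgroup.mem_sup_of_normal_right.1
    (show (g : G) ∈ zpowers y ⊔ N from sup_comm N (zpowers y) ▸ g.2)
  refine ⟨n, hn, ?_⟩
  have hz : n * x * n⁻¹ ∈ zpowers y := by
    have := mul_mem (mul_mem (inv_mem hw) hgx) hw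
    rwa [← e, show w⁻¹ * (w * n * x * (w * n)⁻¹) * w = n * x * n⁻¹ by group] at this
  have hd : y⁻¹ * (n * x * n⁻¹) ∈ N ⊓ zpowers y := by
    refine Subgroup.mem_inf.2 ⟨?_, mul_mem (inv_mem (mem_zpowers y)) hz⟩
    rw [show y⁻¹ * (n * x * n⁻¹) = (y⁻¹ * n * y) * (y⁻¹ * x) * n⁻¹ by group]
    exact mul_mem (mul_mem (by simpa using (inferInstance : N.Normal).conj_mem n hn y⁻¹) h)
      (inv_mem hn)
  rw [hdisj, Subgroup.mem_bot] at hd
  exact (inv_mul_eq_one.1 hd).symm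

namespace Cfg

variable {T : Sylow 2 G} {S H : Subgroup G} (h : Cfg T S H)
include h

theorem data [Finite G] : StronglyClosed.Data T S H :=
  ⟨h.closed, h.ne, fun t ht ht2 => h.cent t ht (ne_one_of_invol ht2),
    ((StronglyClosed.normalizer_le_normalizer h.closed).trans
      (PLocal.normalizer_le_normalizer_omegaOne 2 S)).trans h.norm⟩

/-- An element of `S` other than `1` has one conjugator class into `H`. -/
theorem mem_of_conj_mem [Finite G] {s g : G} (hs : s ∈ S) (hs1 : s ≠ 1) (hg : g * s * g⁻¹ ∈ H) :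
    g ∈ H := by
  haveI : Fact (Nat.Prime 2) := ⟨Nat.prime_two⟩
  have hd := h.data
  have hp : IsPGroup 2 (zpowers (g * s * g⁻¹)) := by
    have h1 : IsPGroup 2 (zpowers s) := T.2.to_le (zpowers_le.2 (h.closed.1 hs))
    have h2 := h1.map (MulAut.conj g).toMonoidHom
    rwa [MonoidHom.map_zpowers] at h2
  obtain ⟨m, hm, hmT⟩ := hd.exists_conj hp (zpowers_le.2 hg)
  set y := m * g with hy
  have hys : y * s * y⁻¹ ∈ S := h.closed.2 s hs y (by
    convert hmT _ (mem_zpowers _) using 1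
    rw [hy]; group)
  suffices hyH : y ∈ H by
    have := mul_mem (inv_mem hm) hyH
    rwa [hy, inv_mul_cancel_left] at this
  obtain ⟨z, hzS, hz2, hzc⟩ := hd.exists_central
  have h3 : y⁻¹ * z * y⁻¹⁻¹ ∈ H := h.cent s hs hs1 (mem_centralizer_singleton_iff.2 (by
    have e := hzc _ (h.closed.1 hys)
    calc y⁻¹ * z * y⁻¹⁻¹ * s = y⁻¹ * (z * (y * s * y⁻¹)) * y := by group
      _ = y⁻¹ * ((y * s * y⁻¹) * z) * y := by rw [← e.eq]
      _ = s * (y⁻¹ * z * y⁻¹⁻¹) := by group))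
  have := hd.mem_of_conj_mem hzS hz2 h3
  simpa using inv_mem this

omit h in
/-- The involutions of `X` give strong embedding. -/
theorem stronglyEmbedded [Finite G] {X : Subgroup G} (hX : ¬ X ≤ H)
    (hev : ∃ x ∈ X, x ∈ H ∧ orderOf x = 2)
    (hfix : ∀ x ∈ X, orderOf x = 2 → x ∈ H → ∀ g ∈ X, g⁻¹ * x * g ∈ H → g ∈ H) :
    Cfsg.IsStronglyEmbedded ((H ⊓ X).subgroupOf X) := by
  haveI : Fact (Nat.Prime 2) := ⟨Nat.prime_two⟩
  refine ⟨fun e => hX fun x hx => ?_, ?_, fun g hg => ?_⟩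
  · have : (⟨x, hx⟩ : X) ∈ (H ⊓ X).subgroupOf X := e ▸ mem_top _
    exact this.1
  · obtain ⟨x, hx, hxH, hx2⟩ := hev
    have h2 : orderOf (⟨x, hx⟩ : X) = 2 := by rw [← Subgroup.orderOf_coe]; exact hx2
    have := Subgroup.orderOf_dvd_natCard ((H ⊓ X).subgroupOf X) (x := (⟨x, hx⟩ : X)) ⟨hxH, hx⟩
    exact even_iff_two_dvd.2 (h2 ▸ this)
  rw [← Nat.not_even_iff_odd]
  intro hev'
  obtain ⟨⟨x, hxH, w, hw, hwx⟩, hx2⟩ := exists_prime_orderOf_dvd_card' 2 (even_iff_two_dvd.1 hev')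
  rw [← Subgroup.orderOf_coe] at hx2
  refine hg ⟨hfix (x : G) x.2 ?_ hxH.1 g g.2 ?_, g.2⟩
  · rw [Subgroup.orderOf_coe]; exact hx2
  · rw [MulEquiv.coe_toMonoidHom, MulAut.conj_apply] at hwx
    rw [← hwx]
    convert hw.1 using 1
    simp [mul_assoc]

end Cfg

end CfsgLib.StrongClosed75
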