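import Mathlib

/-!
Automorphisms of generalized quaternion groups: of order eight those trivial modulo the centre are
inner, and for larger order those of odd order are trivial.
-/

set_option autoImplicit false
set_option linter.unusedSectionVars false

namespace CfsgLib.StrongClosed75

open QuaternionGroup

theorem quat_ext {n : ℕ} [NeZero n] {M : Type*} [Monoid M] {f g : QuaternionGroup n →* M}
    (ha : f (a 1) = g (a 1)) (hx : f (xa 0) = g (xa 0)) : f = g := by
  have key : ∀ i : ZMod (2 * n), f (a i) = g (a i) := fun i => by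
    rw [← ZMod.natCast_zmod_val i, ← a_one_pow, map_pow, map_pow, ha]
  refine MonoidHom.ext fun x => ?_
  rcases x with i | i
  · exact key i
  · rw [show (xa i : QuaternionGroup n) = xa 0 * a i by simp, map_mul, map_mul, hx, key]

/-- the centre of the quaternion group of order eight has two elements -/
theorem quat_center_two (x : QuaternionGroup 2) :
    (∀ y : QuaternionGroup 2, y * x = x * y) ↔ x = a 0 ∨ x = a 2 := by
  rcases x with i | i <;> fin_cases i <;> decide

/-- automorphisms of the quaternion group of order eight trivial modulo the centre are inner -/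
theorem quat_eight_inner (φ : MulAut (QuaternionGroup 2))
    (h : ∀ x, x⁻¹ * φ x ∈ Subgroup.center (QuaternionGroup 2)) :
    ∃ s, φ = MulAut.conj s := by
  have hc : ∀ x, φ x = x ∨ φ x = x * a 2 := fun x => by
    rcases (quat_center_two _).1 (Subgroup.mem_center_iff.1 (h x)) with e | e
    · left
      rw [a_zero, inv_mul_eq_one] at e
      exact e.symm
    · right
      rw [← e, mul_inv_cancel_left]
  have hs : ∀ p q : QuaternionGroup 2, (p = a 1 ∨ p = a 1 * a 2) → (q = xa 0 ∨ q = xa 0 * a 2) →
      ∃ s : QuaternionGroup 2, s * a 1 * s⁻¹ = p ∧ s * xa 0 * s⁻¹ = q := by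
    intro p q hp hq
    rcases hp with rfl | rfl <;> rcases hq with rfl | rfl
    · exact ⟨a 0, by decide, by decide⟩
    · exact ⟨a 1, by decide, by decide⟩
    · exact ⟨xa 0, by decide, by decide⟩
    · exact ⟨xa 1, by decide, by decide⟩
  obtain ⟨s, h1, h2⟩ := hs _ _ (hc (a 1)) (hc (xa 0))
  refine ⟨s, MulEquiv.toMonoidHom_injective (quat_ext h1.symm h2.symm)⟩

theorem quat_odd_aux {n k : ℕ} [NeZero n] (hn4 : 4 ≤ n) (h2n : 2 * n = 2 ^ (k + 1))
    (φ : MulAut (QuaternionGroup n)) (hφ : Odd (orderOf φ)) : φ = 1 := by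
  have hord : orderOf (φ (a 1)) = 2 * n := by rw [MulEquiv.orderOf_eq, orderOf_a_one]
  obtain ⟨j, hj⟩ : ∃ j, φ (a 1) = a j := by
    rcases h : φ (a 1) with j | j
    · exact ⟨j, rfl⟩
    · rw [h, orderOf_xa] at hord
      omega
  have hφa : ∀ i, φ (a i) = a (i * j) := by
    intro i
    rw [← ZMod.natCast_zmod_val i, ← a_one_pow, map_pow, hj]
    generalize ZMod.val i = m
    induction m with
    | zero => simp
    | succ m ih =>
      rw [pow_succ, ih, a_mul_a]
      congr 1
      push_cast
      ring
  obtain ⟨m, hm⟩ := hφ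
  have hpa : ∀ e : ℕ, (φ ^ e) (a 1) = a (j ^ e) := by
    intro e
    induction e with
    | zero => simp
    | succ e ih => rw [pow_succ', MulAut.mul_apply, ih, hφa, pow_succ]
  have hj1 : j ^ orderOf φ = 1 := by
    have := hpa (orderOf φ)
    rw [pow_orderOf_eq_one] at this
    exact (QuaternionGroup.a.inj (this.symm))
  have hju : IsUnit j := IsUnit.of_pow_eq_one hj1 (by omega)
  obtain ⟨v, hv⟩ := hju
  have hv1 : v = 1 := by
    have h1 : orderOf v ∣ orderOf φ :=
      orderOf_dvd_of_pow_eq_one (Units.ext (by push_cast; rw [hv]; exact hj1))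
    have h2 : orderOf v ∣ 2 ^ k := by
      refine (orderOf_dvd_card).trans ?_
      rw [ZMod.card_units_eq_totient, h2n, Nat.totient_prime_pow Nat.prime_two (by omega)]
      simp
    refine orderOf_eq_one_iff.1 (Nat.eq_one_of_dvd_coprimes ?_ h1 h2)
    exact Nat.Coprime.pow_right k (Nat.coprime_two_right.2 ⟨m, hm⟩)
  have hj' : j = 1 := by rw [← hv, hv1, Units.val_one]
  obtain ⟨i, hi⟩ : ∃ i, φ (xa 0) = xa i := by
    rcases h : φ (xa 0) with i | i
    · exfalso
      have := φ.injective (h.trans (by rw [hφa, hj', mul_one] : (a i : QuaternionGroup n) = φ (a i)))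
      simp at this
    · exact ⟨i, rfl⟩
  have hpx : ∀ e : ℕ, (φ ^ e) (xa 0) = xa ((e : ZMod (2 * n)) * i) := by
    intro e
    induction e with
    | zero => simp
    | succ e ih =>
      rw [pow_succ', MulAut.mul_apply, ih, show (xa ((e : ZMod (2 * n)) * i) : QuaternionGroup n) =
        xa 0 * a ((e : ZMod (2 * n)) * i) by simp, map_mul, hi, hφa, hj', mul_one, xa_mul_a]
      congr 1
      push_cast
      ring
  have hi0 : i = 0 := by
    have := hpx (orderOf φ)
    rw [pow_orderOf_eq_one] at this
    have e := QuaternionGroup.xa.inj this.symm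
    have hu : IsUnit ((orderOf φ : ℕ) : ZMod (2 * n)) := by
      rw [ZMod.isUnit_iff_coprime, h2n]
      exact Nat.Coprime.pow_right _ (Nat.coprime_two_right.2 ⟨m, hm⟩)
    exact hu.mul_right_eq_zero.1 e
  exact MulEquiv.toMonoidHom_injective (quat_ext (g := MonoidHom.id _)
    (show φ (a 1) = a 1 by rw [hj, hj']) (show φ (xa 0) = xa 0 by rw [hi, hi0]))

/-- automorphisms of odd order of larger quaternion groups are trivial -/
theorem quat_odd_trivial {k : ℕ} (hk : 2 ≤ k) (φ : MulAut (QuaternionGroup (2 ^ k)))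
    (hφ : Odd (orderOf φ)) : φ = 1 :=
  haveI : NeZero (2 ^ k) := ⟨by positivity⟩
  quat_odd_aux (k := k) (Nat.pow_le_pow_right (n := 2) two_pos hk) (by rw [pow_succ, mul_comm]) φ hφ

end CfsgLib.StrongClosed75
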