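import Cfsg.Agent.Lib.StrongClosed75.FusionMod
import Cfsg.Agent.Lib.StrongClosed75.QuatAut
import Cfsg.Agent.Lib.ProductFusion.Main
import Cfsg.Agent.Lib.TwoGroups.OneInvolution
import Cfsg.Agent.S0215
import Cfsg.Agent.S1250

/-!
A strongly closed subgroup of a Sylow 2-subgroup with at most one involution is the intersection of the
Sylow subgroup with its normal closure.
-/

set_option autoImplicit false
set_option linter.style.haveILetI false
set_option linter.unusedSectionVars false

namespace CfsgLib.StrongClosed75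

open Subgroup

universe u

local instance : Fact (Nat.Prime 2) := ⟨Nat.prime_two⟩

/-- At most one involution. -/
def Unique {G : Type u} [Group G] (S : Subgroup G) : Prop :=
  ∀ a ∈ S, ∀ b ∈ S, orderOf a = 2 → orderOf b = 2 → a = b

variable {G : Type u} [Group G]

theorem orderOf_two_of_sq {a : G} (h : a * a = 1) (h1 : a ≠ 1) : orderOf a = 2 :=
  orderOf_eq_prime (by rw [pow_two, h]) h1

theorem conj_pow_of_fixed {a e c : G} (he : a * e * a⁻¹ = e * c) (hc : a * c * a⁻¹ = c) (n : ℕ) :
    a ^ n * e * (a ^ n)⁻¹ = e * c ^ n := by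
  induction n with
  | zero => simp
  | succ n ih =>
    have hcn : a * c ^ n * a⁻¹ = c ^ n := by rw [← conj_pow, hc]
    calc a ^ (n + 1) * e * (a ^ (n + 1))⁻¹ = a * (a ^ n * e * (a ^ n)⁻¹) * a⁻¹ := by
          rw [pow_succ']; group
      _ = (a * e * a⁻¹) * (a * c ^ n * a⁻¹) := by rw [ih]; group
      _ = e * c ^ (n + 1) := by rw [he, hcn, pow_succ']; group

variable [Finite G]

/-- An element of odd order normalising an abelian 2-group with one involution centralises it. -/
theorem fixed_of_odd {E : Subgroup G} (hE2 : IsPGroup 2 E) (hu : Unique E)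
    (hcomm : ∀ x ∈ E, ∀ y ∈ E, Commute x y) {a : G} (ha : Odd (orderOf a))
    (hn : ∀ e ∈ E, a * e * a⁻¹ ∈ E) : ∀ e ∈ E, a * e * a⁻¹ = e := by
  intro e
  induction hord : orderOf e using Nat.strong_induction_on generalizing e with
  | _ m IH =>
    subst hord
    intro he
    rcases eq_or_ne e 1 with rfl | he1
    · simp
    obtain ⟨k, hk⟩ := IsPGroup.iff_orderOf.1 hE2 ⟨e, he⟩
    rw [← Subgroup.orderOf_coe] at hk
    have hk0 : k ≠ 0 := fun h => he1 (orderOf_eq_one_iff.1 (by rw [hk, h, pow_zero]))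
    have hlt : orderOf (e * e) < orderOf e := by
      rw [← pow_two, orderOf_pow, hk,
        Nat.gcd_eq_right ((dvd_pow_self 2 hk0))]
      exact Nat.div_lt_self (pow_pos two_pos _) one_lt_two
    have hsq := IH _ hlt (e * e) rfl (mul_mem he he)
    set c := e⁻¹ * (a * e * a⁻¹) with hc
    have hcE : c ∈ E := mul_mem (inv_mem he) (hn e he)
    have hcc : c * c = 1 := by
      have h1 : Commute e⁻¹ (a * e * a⁻¹) := (hcomm e he _ (hn e he)).inv_left
      rw [← pow_two, hc, h1.mul_pow, inv_pow, conj_pow, pow_two e, hsq, inv_mul_cancel]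
    by_cases hc1 : c = 1
    · rw [hc, inv_mul_eq_one] at hc1
      exact hc1.symm
    have hca : a * c * a⁻¹ = c := hu _ (hn c hcE) _ hcE
      (by rw [CfsgLib.Involutions.orderOf_conj_eq, orderOf_two_of_sq hcc hc1]) (orderOf_two_of_sq hcc hc1)
    have h1 := conj_pow_of_fixed (show a * e * a⁻¹ = e * c by rw [hc]; group) hca (orderOf a)
    rw [pow_orderOf_eq_one, one_mul, inv_one, mul_one, eq_comm, mul_eq_left] at h1
    obtain ⟨m, hm⟩ := ha
    rw [hm, pow_succ, pow_mul, pow_two, hcc, one_pow, one_mul] at h1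
    exact absurd h1 hc1

/-- A non-trivial strongly closed subgroup with one involution gives an odd normal subgroup modulo
which that involution is central. -/
theorem exists_odd_normal (T : Sylow 2 G) {S : Subgroup G}
    (hsc : Cfsg.IsStronglyClosed S (T : Subgroup G)) (hu : Unique S) {z : G} (hz : z ∈ S)
    (hz2 : orderOf z = 2) :
    ∃ N : Subgroup G, N.Normal ∧ Odd (Nat.card N) ∧ ∀ g : G, z * g * z⁻¹ * g⁻¹ ∈ N :=
  Cfsg.Agent.S0215.result T z hz2 (hsc.1 hz) fun g hg =>
    hu _ (hsc.2 z hz g hg) _ hz (by rw [CfsgLib.Involutions.orderOf_conj_eq, hz2]) hz2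

theorem inf_eq_bot_of_odd {P N : Subgroup G} (hP : IsPGroup 2 P) (hN : Odd (Nat.card N)) :
    P ⊓ N = ⊥ := Subgroup.inf_eq_bot_of_coprime (by
  obtain ⟨k, hk⟩ := hP.exists_card_eq
  rw [hk]
  exact Nat.Coprime.pow_left k (Nat.coprime_two_left.2 hN))

/-- The abelian case. -/
theorem inter_le_of_comm :
    ∀ (G : Type u) [Group G] [Finite G] (T : Sylow 2 G) (S : Subgroup G),
      Cfsg.IsStronglyClosed S (T : Subgroup G) → Unique S → (∀ x ∈ S, ∀ y ∈ S, Commute x y) →
      ∀ t ∈ (T : Subgroup G), t ∈ normalClosure (S : Set G) → t ∈ S := by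
  intro G _ _
  induction hn : Nat.card G using Nat.strong_induction_on generalizing G with
  | _ n IH =>
    subst hn
    intro T S hsc hu hcomm t ht htX
    by_cases hS : S = ⊥
    · have h0 : normalClosure (S : Set G) = ⊥ :=
        le_bot_iff.1 (normalClosure_le_normal (by rw [hS]))
      rw [h0] at htX
      exact hS ▸ htX
    -- the involution of `S`
    have h2S := T.2.to_le hsc.1
    obtain ⟨⟨z, hz⟩, hz2⟩ : ∃ z : S, orderOf z = 2 := by
      haveI : Nontrivial S := (nontrivial_iff_ne_bot S).2 hS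
      obtain ⟨n, hn, hcard⟩ := (IsPGroup.nontrivial_iff_card h2S).1 inferInstance
      exact exists_prime_orderOf_dvd_card' 2 (hcard ▸ dvd_pow_self 2 hn.ne')
    rw [← Subgroup.orderOf_coe] at hz2
    change orderOf z = 2 at hz2
    obtain ⟨N, hN, hNodd, hNz⟩ := exists_odd_normal T hsc hu hz hz2
    set π := QuotientGroup.mk' N with hπ
    have hzc : π z ∈ center (G ⧸ N) := mem_center_iff.2 fun q => by
      obtain ⟨g, rfl⟩ := QuotientGroup.mk'_surjective N q
      have h1 : π (z * g * z⁻¹ * g⁻¹) = 1 := (QuotientGroup.eq_one_iff _).2 (hNz g)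
      rw [map_mul, map_mul, map_mul, map_inv, map_inv, mul_inv_eq_one, mul_inv_eq_iff_eq_mul] at h1
      exact h1.symm
    haveI : (zpowers (π z)).Normal := ⟨fun x hx g => by
      have : x ∈ center (G ⧸ N) := (zpowers_le.2 hzc) hx
      rw [mem_center_iff.1 this g, mul_inv_cancel_right]
      exact hx⟩
    set M := (zpowers (π z)).comap π with hM
    haveI hMn : M.Normal := inferInstance
    have hzM : z ∈ M := mem_zpowers (π z)
    have hMT : ∀ x ∈ (T : Subgroup G), x ∈ M → x ∈ zpowers z := by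
      intro x hx hxM
      obtain ⟨i, hi⟩ := mem_zpowers_iff.1 hxM
      have h1 : (z ^ i)⁻¹ * x ∈ (T : Subgroup G) ⊓ N := by
        refine Subgroup.mem_inf.2 ⟨mul_mem (inv_mem (zpow_mem (hsc.1 hz) i)) hx, (QuotientGroup.eq_one_iff _).1 ?_⟩
        show π ((z ^ i)⁻¹ * x) = 1
        rw [map_mul, map_inv, map_zpow, hi, inv_mul_cancel]
      rw [inf_eq_bot_of_odd T.2 hNodd, mem_bot, inv_mul_eq_one] at h1
      exact h1 ▸ zpow_mem (mem_zpowers z) i
    set ψ := QuotientGroup.mk' M with hψ
    have hlt : Nat.card (G ⧸ M) < Nat.card G := by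
      have h := card_eq_card_quotient_mul_card_subgroup M
      have : 2 ≤ Nat.card M := by
        have := Nat.le_of_dvd Nat.card_pos (orderOf_dvd_natCard M hzM)
        omega
      have := (Nat.card_pos : 0 < Nat.card (G ⧸ M))
      nlinarith
    have hsc' : Cfsg.IsStronglyClosed (S.map ψ) ((T.mapSurjective (QuotientGroup.mk'_surjective M) :
        Sylow 2 (G ⧸ M)) : Subgroup (G ⧸ M)) := by
      rw [Sylow.coe_mapSurjective]
      exact Cfsg.Agent.S1250.result T S hsc M
    have hzz : z * z = 1 := CfsgLib.Involutions.mul_self_eq_one hz2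
    have hzp : ∀ x ∈ zpowers z, x = 1 ∨ x = z := by
      intro x hx
      by_cases hx1 : x = 1
      · exact Or.inl hx1
      right
      have hxS : x ∈ S := (zpowers_le.2 hz) hx
      refine hu x hxS z hz (orderOf_two_of_sq ?_ hx1) hz2
      obtain ⟨i, rfl⟩ := mem_zpowers_iff.1 hx
      rw [← (Commute.refl z).mul_zpow, hzz, one_zpow]
    have hlift : ∀ a ∈ S, orderOf (ψ a) = 2 → a * a = z := by
      intro a ha h2
      have haa : a * a ∈ M := (QuotientGroup.eq_one_iff _).1 (by
        show ψ (a * a) = 1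
        rw [map_mul, ← pow_two, ← h2, pow_orderOf_eq_one])
      rcases hzp _ (hMT _ (hsc.1 (mul_mem ha ha)) haa) with e | e
      · exfalso
        have ha1 : a ≠ 1 := fun h => by rw [h, map_one, orderOf_one] at h2; omega
        have := hu a ha z hz (orderOf_two_of_sq e ha1) hz2
        rw [this, show ψ z = 1 from (QuotientGroup.eq_one_iff z).2 hzM, orderOf_one] at h2
        omega
      · exact e
    have hu' : Unique (S.map ψ) := by
      rintro _ ⟨a, ha, rfl⟩ _ ⟨b, hb, rfl⟩ ha2 hb2
      have h1 : (a⁻¹ * b) * (a⁻¹ * b) = 1 := by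
        rw [← pow_two, (hcomm a ha b hb).inv_left.mul_pow, inv_pow, pow_two, pow_two,
          hlift a ha ha2, hlift b hb hb2, inv_mul_cancel]
      have h2 : a⁻¹ * b ∈ M := by
        by_cases h : a⁻¹ * b = 1
        · rw [h]; exact one_mem _
        · rw [hu _ (mul_mem (inv_mem ha) hb) z hz (orderOf_two_of_sq h1 h) hz2]
          exact hzM
      exact (QuotientGroup.eq).2 h2
    have hcomm' : ∀ x ∈ S.map ψ, ∀ y ∈ S.map ψ, Commute x y := by
      rintro _ ⟨a, ha, rfl⟩ _ ⟨b, hb, rfl⟩
      exact (hcomm a ha b hb).map ψ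
    have h3 : ψ t ∈ normalClosure ((S.map ψ : Subgroup (G ⧸ M)) : Set (G ⧸ M)) := by
      rw [coe_map, ← map_normalClosure (S : Set G) ψ (QuotientGroup.mk'_surjective M)]
      exact mem_map_of_mem _ htX
    obtain ⟨s, hs, hse⟩ := IH _ hlt (G ⧸ M) rfl _ _ hsc' hu' hcomm' (ψ t)
      (by rw [Sylow.coe_mapSurjective]; exact mem_map_of_mem _ ht) h3
    have hst : s⁻¹ * t ∈ M := (QuotientGroup.eq).1 hse
    have := (zpowers_le.2 hz) (hMT _ (mul_mem (inv_mem (hsc.1 hs)) ht) hst)
    have h4 := S.mul_mem hs this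
    rwa [mul_inv_cancel_left] at h4

/-- The centraliser of `S` in `T` is strongly closed. -/
theorem stronglyClosed_centralizer (T : Sylow 2 G) {S : Subgroup G}
    (hsc : Cfsg.IsStronglyClosed S (T : Subgroup G)) (hu : Unique S) :
    Cfsg.IsStronglyClosed ((T : Subgroup G) ⊓ centralizer (S : Set G)) (T : Subgroup G) := by
  refine ⟨inf_le_left, fun x hx g hg => ⟨hg, ?_⟩⟩
  refine rel_of_conj T hsc (fun x y => x ∈ centralizer (S : Set G) → y ∈ centralizer (S : Set G))
    (fun _ _ _ h1 h2 h => h2 (h1 h)) (fun n hn y _ _ hy => ?_) (fun D hD a ha hodd htriv y hy hyC => ?_)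
    hx.1 hg hx.2
  · refine mem_centralizer_iff.2 fun s hs => ?_
    have hs' : n⁻¹ * s * n⁻¹⁻¹ ∈ S := (mem_normalizer_iff.1 (inv_mem hn) s).1 hs
    have e := mem_centralizer_iff.1 hy _ hs'
    calc s * (n * y * n⁻¹) = n * ((n⁻¹ * s * n⁻¹⁻¹) * y) * n⁻¹ := by group
      _ = n * (y * (n⁻¹ * s * n⁻¹⁻¹)) * n⁻¹ := by rw [e]
      _ = n * y * n⁻¹ * s := by group
  set E := (S ⊓ D) ⊓ centralizer ((S ⊓ D : Subgroup G) : Set G) with hE
  have hES : E ≤ S := inf_le_left.trans inf_le_left
  have hSDn : ∀ m ∈ normalizer (D : Set G), ∀ e ∈ S ⊓ D, m * e * m⁻¹ ∈ S ⊓ D := fun m hm e he =>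
    ⟨hsc.2 e he.1 m (hD ((mem_normalizer_iff.1 hm e).1 he.2)), (mem_normalizer_iff.1 hm e).1 he.2⟩
  have hEn : ∀ e ∈ E, a * e * a⁻¹ ∈ E := fun e he => ⟨hSDn a ha e he.1,
    mem_centralizer_iff.2 fun f hf => by
      have hf' := hSDn a⁻¹ (inv_mem ha) f hf
      have e' := mem_centralizer_iff.1 he.2 _ hf'
      calc f * (a * e * a⁻¹) = a * ((a⁻¹ * f * a⁻¹⁻¹) * e) * a⁻¹ := by group
        _ = a * (e * (a⁻¹ * f * a⁻¹⁻¹)) * a⁻¹ := by rw [e']
        _ = a * e * a⁻¹ * f := by group⟩
  have hao : Odd (orderOf a) := Nat.not_even_iff_odd.1 fun h => hodd (even_iff_two_dvd.1 h)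
  have hfix := fixed_of_odd (T.2.to_le (hES.trans hsc.1))
    (fun a ha b hb => hu a (hES ha) b (hES hb))
    (fun x hx y hy => mem_centralizer_iff.1 hy.2 x hx.1) hao hEn
  set c := y⁻¹ * (a * y * a⁻¹) with hc
  have hay : a * y * a⁻¹ ∈ D := (mem_normalizer_iff.1 ha y).1 hy
  have hcE : c ∈ E := by
    refine Subgroup.mem_inf.2 ⟨Subgroup.mem_inf.2 ⟨htriv y hy, mul_mem (inv_mem hy) hay⟩, ?_⟩
    refine mul_mem (inv_mem ?_) ?_
    · exact centralizer_le (fun f hf => hf.1) hyC
    · refine mem_centralizer_iff.2 fun f hf => ?_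
      have hf' := hSDn a⁻¹ (inv_mem ha) f hf
      have e' := mem_centralizer_iff.1 hyC _ hf'.1
      calc f * (a * y * a⁻¹) = a * ((a⁻¹ * f * a⁻¹⁻¹) * y) * a⁻¹ := by group
        _ = a * (y * (a⁻¹ * f * a⁻¹⁻¹)) * a⁻¹ := by rw [e']
        _ = a * y * a⁻¹ * f := by group
  have h1 := conj_pow_of_fixed (show a * y * a⁻¹ = y * c by rw [hc]; group) (hfix c hcE) (orderOf a)
  rw [pow_orderOf_eq_one, one_mul, inv_one, mul_one, eq_comm, mul_eq_left] at h1
  have h2 : orderOf c = 1 := by
    obtain ⟨k, hk⟩ := IsPGroup.iff_orderOf.1 (T.2.to_le (hES.trans hsc.1)) ⟨c, hcE⟩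
    rw [← Subgroup.orderOf_coe] at hk
    refine Nat.eq_one_of_dvd_coprimes ?_ (dvd_of_eq hk) (orderOf_dvd_of_pow_eq_one h1)
    exact Nat.Coprime.pow_left k (Nat.coprime_two_left.2 hao)
  rw [orderOf_eq_one_iff, hc, inv_mul_eq_one] at h2
  exact h2 ▸ hyC

open Classical in
/-- `T` is generated by `S` and its centraliser, if no homomorphism separates it from `S`. -/
theorem exists_mul_of_perfect (T : Sylow 2 G) {S : Subgroup G}
    (hsc : Cfsg.IsStronglyClosed S (T : Subgroup G)) (hu : Unique S)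
    (hna : ∃ x ∈ S, ∃ y ∈ S, ¬ Commute x y) (hgen : normalClosure (S : Set G) = ⊤)
    (x : G) (hx : x ∈ (T : Subgroup G)) :
    ∃ s ∈ S, s⁻¹ * x ∈ (T : Subgroup G) ⊓ centralizer (S : Set G) := by
  set N := normalizer (S : Set G) with hN
  have hTN : (T : Subgroup G) ≤ N := fun t ht =>
    CfsgLib.Coprime.mem_normalizer_of_forall_conj fun s hs =>
      hsc.2 s hs t (mul_mem (mul_mem ht (hsc.1 hs)) (inv_mem ht))
  -- homomorphisms of the normalizer killing `S` vanish on `T`
  have kill : ∀ (A : Type u) [CommGroup A] (ψ : N →* A),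
      (∀ (s : G) (hs : s ∈ S), ψ ⟨s, le_normalizer hs⟩ = 1) →
      ∀ (t : G) (ht : t ∈ (T : Subgroup G)), ψ ⟨t, hTN ht⟩ = 1 := by
    intro A _ ψ hψS t ht
    let f : G → A := fun g => if h : g ∈ N then ψ ⟨g, h⟩ else 1
    have hf : ∀ (g : G) (hg : g ∈ N), f g = ψ ⟨g, hg⟩ := fun g hg => dif_pos hg
    have hrel : ∀ (y g : G), y ∈ (T : Subgroup G) → g * y * g⁻¹ ∈ (T : Subgroup G) →
        f y = f (g * y * g⁻¹) := fun y g hy hgy =>
      rel_of_conj T hsc (fun u v => f u = f v) (fun _ _ _ h1 h2 => h1.trans h2)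
        (fun n hn u hu _ => by
          rw [hf u (hTN hu), hf _ (mul_mem (mul_mem hn (hTN hu)) (inv_mem hn)),
            show (⟨n * u * n⁻¹, mul_mem (mul_mem hn (hTN hu)) (inv_mem hn)⟩ : N) =
              ⟨n, hn⟩ * ⟨u, hTN hu⟩ * ⟨n, hn⟩⁻¹ from Subtype.ext rfl, map_mul, map_mul, map_inv,
            mul_comm (ψ ⟨n, hn⟩), mul_inv_cancel_right])
        (fun D hD a ha _ htriv u hu => by
          have hau : a * u * a⁻¹ ∈ (T : Subgroup G) := hD ((mem_normalizer_iff.1 ha u).1 hu)
          rw [hf u (hTN (hD hu)), hf _ (hTN hau),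
            show (⟨a * u * a⁻¹, hTN hau⟩ : N) =
              ⟨u, hTN (hD hu)⟩ * ⟨u⁻¹ * (a * u * a⁻¹), le_normalizer (htriv u hu)⟩ from
              Subtype.ext (by simp), map_mul, hψS _ (htriv u hu), mul_one])
        hy hgy
    exact eq_one_of_fusion_invariant T hsc.1 (ψ.comp (Subgroup.inclusion hTN))
      (fun y g hy hgy => by
        have := hrel y g hy hgy
        rw [hf y (hTN hy), hf _ (hTN hgy)] at this
        exact this.symm)
      (fun s hs => hψS s hs) ⟨t, ht⟩ (by rw [hgen]; exact mem_top _)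
  -- the action on `S`
  let cn : N →* MulAut S :=
    { toFun := fun n =>
        { toFun := fun s => ⟨(n : G) * s * (n : G)⁻¹, (mem_normalizer_iff.1 n.2 s).1 s.2⟩
          invFun := fun s => ⟨(n : G)⁻¹ * s * (n : G)⁻¹⁻¹, (mem_normalizer_iff.1 (inv_mem n.2) s).1 s.2⟩
          left_inv := fun s => Subtype.ext (by simp [mul_assoc])
          right_inv := fun s => Subtype.ext (by simp [mul_assoc])
          map_mul' := fun s s' => Subtype.ext (by simp [mul_assoc]) }
      map_one' := MulEquiv.ext fun s => Subtype.ext (by simp)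
      map_mul' := fun n m => MulEquiv.ext fun s => Subtype.ext (by simp [mul_assoc]) }
  have hcn : ∀ (n : N) (s : S), ((cn n s : S) : G) = (n : G) * s * (n : G)⁻¹ := fun n s => rfl
  have inner : ∀ (y : G) (hy : y ∈ (T : Subgroup G)) (s : S),
      cn ⟨y, hTN hy⟩ = MulAut.conj s →
      ∃ s ∈ S, s⁻¹ * y ∈ (T : Subgroup G) ⊓ centralizer (S : Set G) := by
    intro y hy s e
    refine ⟨s, s.2, Subgroup.mem_inf.2 ⟨mul_mem (inv_mem (hsc.1 s.2)) hy,
      mem_centralizer_iff.2 fun w hw => ?_⟩⟩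
    have e1 := congrArg Subtype.val (DFunLike.congr_fun e ⟨w, hw⟩)
    have e2 : y * w * y⁻¹ = (s : G) * w * (s : G)⁻¹ := e1
    calc w * ((s : G)⁻¹ * y) = (s : G)⁻¹ * ((s : G) * w * (s : G)⁻¹) * y := by group
      _ = (s : G)⁻¹ * (y * w * y⁻¹) * y := by rw [e2]
      _ = (s : G)⁻¹ * y * w := by group
  have h2S : IsPGroup 2 S := T.2.to_le hsc.1
  rcases TwoGroups.OneInvolution.isCyclic_or_quaternion h2S (fun a b ha hb => Subtype.ext
      (hu a a.2 b b.2 (by rwa [Subgroup.orderOf_coe]) (by rwa [Subgroup.orderOf_coe]))) with hc | ⟨k, hk, ⟨e⟩⟩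
  · exfalso
    obtain ⟨u, hu', v, hv, huv⟩ := hna
    exact huv (congrArg Subtype.val (hc.isMulCommutative.is_comm.comm (⟨u, hu'⟩ : S) ⟨v, hv⟩))
  rcases eq_or_lt_of_le hk with rfl | hk2
  · -- the quaternion group of order eight
    have hchar : ∀ (φ : MulAut S), (center S).map φ.toMonoidHom = center S := fun φ =>
      characteristic_iff_map_eq.1 inferInstance φ
    let ψ₀ : MulAut S →* Equiv.Perm (S ⧸ center S) :=
      { toFun := fun φ => (QuotientGroup.congr (center S) (center S) φ (hchar φ)).toEquiv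
        map_one' := Equiv.ext fun q => QuotientGroup.induction_on q fun x => rfl
        map_mul' := fun φ φ' => Equiv.ext fun q => QuotientGroup.induction_on q fun x => rfl }
    have hcard : Nat.card (S ⧸ center S) = 4 := by
      have h8 : Nat.card S = 8 := by
        rw [Nat.card_congr e.toEquiv, Nat.card_eq_fintype_card, QuaternionGroup.card]
        rfl
      have h2' : Nat.card (center S) = 2 := by
        rw [Nat.card_congr (Subgroup.centerCongr e).toEquiv]
        refine Nat.card_eq_two_iff.2 ⟨⟨QuaternionGroup.a 0, mem_center_iff.2 ((quat_center_two _).2 (Or.inl rfl))⟩,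
          ⟨QuaternionGroup.a 2, mem_center_iff.2 ((quat_center_two _).2 (Or.inr rfl))⟩,
          fun h => absurd (congrArg Subtype.val h) (by decide), ?_⟩
        ext w
        simp only [Set.mem_univ, iff_true, Set.mem_insert_iff, Set.mem_singleton_iff]
        exact ((quat_center_two _).1 (mem_center_iff.1 w.2)).imp Subtype.ext Subtype.ext
      have h := card_eq_card_quotient_mul_card_subgroup (center S)
      rw [h8, h2'] at h
      omega
    haveI := Fintype.ofFinite (S ⧸ center S)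
    let χ : N →* ℤˣ := Equiv.Perm.sign.comp (ψ₀.comp cn)
    let χ' : N →* ULift.{u} ℤˣ := MulEquiv.ulift.symm.toMonoidHom.comp χ
    have hχS : ∀ (s : G) (hs : s ∈ S), χ' ⟨s, le_normalizer hs⟩ = 1 := by
      intro s hs
      have : ψ₀ (cn ⟨s, le_normalizer hs⟩) = 1 := Equiv.ext fun q => QuotientGroup.induction_on q fun w => by
        show QuotientGroup.mk (cn ⟨s, le_normalizer hs⟩ w) = (QuotientGroup.mk w : S ⧸ center S)
        rw [QuotientGroup.eq]
        -- the quotient is commutative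
        have hq : ∀ u v : QuaternionGroup (2 ^ 1), u * v * u⁻¹ * v⁻¹ ∈ center (QuaternionGroup (2 ^ 1)) := by
          intro u v
          refine mem_center_iff.2 ((quat_center_two _).2 ?_)
          revert u v
          change ∀ u v : QuaternionGroup 2, u * v * u⁻¹ * v⁻¹ = _ ∨ u * v * u⁻¹ * v⁻¹ = _
          decide
        have h1 := hq (e ⟨s, hs⟩) (e w)
        rw [mem_center_iff] at h1 ⊢
        have hcw : cn ⟨s, le_normalizer hs⟩ w = ⟨s, hs⟩ * w * (⟨s, hs⟩ : S)⁻¹ := rfl
        intro v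
        have hc' : (⟨s, hs⟩ : S) * w * (⟨s, hs⟩ : S)⁻¹ * w⁻¹ ∈ center S := mem_center_iff.2 fun v => e.injective (by
          simp only [map_mul, map_inv]
          exact h1 (e v))
        have h2 : (cn ⟨s, le_normalizer hs⟩ w)⁻¹ * w ∈ center S := by
          rw [hcw, show ((⟨s, hs⟩ : S) * w * (⟨s, hs⟩ : S)⁻¹)⁻¹ * w =
            w⁻¹ * ((⟨s, hs⟩ : S) * w * (⟨s, hs⟩ : S)⁻¹ * w⁻¹)⁻¹ * w by group,
            mem_center_iff.1 (inv_mem hc') w⁻¹, inv_mul_cancel_right]
          exact inv_mem hc'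
        exact mem_center_iff.1 h2 v
      show MulEquiv.ulift.symm (Equiv.Perm.sign (ψ₀ (cn ⟨s, le_normalizer hs⟩))) = 1
      rw [this, map_one, map_one]
    have h1 := kill _ χ' hχS x hx
    have hsign : Equiv.Perm.sign (ψ₀ (cn ⟨x, hTN hx⟩)) = 1 :=
      MulEquiv.ulift.symm.injective (h1.trans (map_one _).symm)
    -- an even permutation of four points fixing one, of 2-power order
    set σ := ψ₀ (cn ⟨x, hTN hx⟩) with hσ
    have hσ1 : σ (QuotientGroup.mk 1) = QuotientGroup.mk 1 :=
      congrArg QuotientGroup.mk (map_one (cn ⟨x, hTN hx⟩))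
    obtain ⟨j, hj⟩ := IsPGroup.iff_orderOf.1 T.2 ⟨x, hx⟩
    have hσp : σ ^ (2 ^ j) = 1 := by
      rw [hσ, ← map_pow, ← map_pow, show (⟨x, hTN hx⟩ : N) ^ (2 ^ j) = 1 from Subtype.ext (by
        show x ^ (2 ^ j) = 1
        rw [← hj, ← Subgroup.orderOf_coe, pow_orderOf_eq_one]), map_one, map_one]
    have hσ0 : σ = 1 := by
      let f : (S ⧸ center S) ≃ Fin 4 :=
        (Fintype.equivFin _).trans (finCongr (by rw [← Nat.card_eq_fintype_card, hcard]))
      have key : ∀ τ : Equiv.Perm (Fin 4), ∀ i, τ i = i → Equiv.Perm.sign τ = 1 → τ ≠ 1 → orderOf τ = 3 := by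
        intro τ i hi hs h1
        refine orderOf_eq_prime ?_ h1
        revert τ i
        decide
      by_contra h1
      have h3 := key (f.permCongr σ) (f (QuotientGroup.mk 1))
        (by rw [Equiv.permCongr_apply, Equiv.symm_apply_apply, hσ1]) (by rw [Equiv.Perm.sign_permCongr, hsign])
        (fun h => h1 (Equiv.ext fun q => f.injective (by
          simpa [Equiv.permCongr_apply] using Equiv.ext_iff.1 h (f q))))
      have h4 : orderOf (f.permCongr σ) ∣ 2 ^ j := orderOf_dvd_of_pow_eq_one (by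
        rw [← Equiv.permCongrHom_coe, ← map_pow, hσp, map_one])
      rw [h3] at h4
      exact absurd (Nat.prime_three.dvd_of_dvd_pow h4) (by norm_num)
    obtain ⟨s, hs⟩ := quat_eight_inner ((MulAut.congr e) (cn ⟨x, hTN hx⟩)) fun w => by
      have hq : (QuotientGroup.mk (cn ⟨x, hTN hx⟩ (e.symm w)) : S ⧸ center S) =
          QuotientGroup.mk (e.symm w) := Equiv.ext_iff.1 hσ0 (QuotientGroup.mk (e.symm w))
      have h2 := (QuotientGroup.eq).1 hq.symm
      have h5 := ((mem_center_iff).1 h2)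
      refine mem_center_iff.2 fun v => ?_
      have h6 := congrArg e (h5 (e.symm v))
      simpa using h6
    refine inner x hx (e.symm s) (MulEquiv.ext fun w => e.injective ?_)
    have h7 := DFunLike.congr_fun hs (e w)
    simpa using h7
  · -- larger quaternion groups
    set C : Subgroup N := (centralizer (S : Set G)).subgroupOf N with hC
    let I : Subgroup N := cn.ker ⊔ S.subgroupOf N
    haveI : (S.subgroupOf N).Normal := normal_in_normalizer
    haveI : I.Normal := Subgroup.sup_normal _ _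
    have hI : ∀ a : N, ¬ 2 ∣ orderOf a → a ∈ I := by
      intro a ha
      refine mem_sup_left (MonoidHom.mem_ker.2 ((MulAut.congr e).injective ?_))
      rw [map_one]
      refine quat_odd_trivial hk2 _ (Odd.of_dvd_nat (Nat.not_even_iff_odd.1 fun h =>
        ha (even_iff_two_dvd.1 h)) ?_)
      exact (orderOf_map_dvd ((MulAut.congr e).toMonoidHom.comp cn) a)
    have hp2 : IsPGroup 2 (N ⧸ I) := by
      intro q
      obtain ⟨a, rfl⟩ := QuotientGroup.mk'_surjective I q
      obtain ⟨j, b, hb, hab⟩ := Nat.exists_eq_two_pow_mul_odd (orderOf_pos a).ne'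
      refine ⟨j, ?_⟩
      rw [← map_pow]
      refine (QuotientGroup.eq_one_iff _).2 (hI _ fun h => ?_)
      have h1 : orderOf (a ^ 2 ^ j) ∣ b := orderOf_dvd_of_pow_eq_one (by
        rw [← pow_mul, ← hab, pow_orderOf_eq_one])
      exact (Nat.not_even_iff_odd.2 hb) (even_iff_two_dvd.2 (h.trans h1))
    let ψ : N →* Abelianization (N ⧸ I) := Abelianization.of.comp (QuotientGroup.mk' I)
    have hψ : ∀ (s : G) (hs : s ∈ S), ψ ⟨s, le_normalizer hs⟩ = 1 := fun s hs => by
      show Abelianization.of (QuotientGroup.mk' I ⟨s, _⟩) = 1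
      rw [show QuotientGroup.mk' I (⟨s, le_normalizer hs⟩ : N) = 1 from
        (QuotientGroup.eq_one_iff _).2 (mem_sup_right hs), map_one]
    let PN : Sylow 2 N := T.subtype hTN
    have hsurj : ∀ q : N ⧸ I, ∃ t : G, ∃ ht : t ∈ (T : Subgroup G), QuotientGroup.mk' I ⟨t, hTN ht⟩ = q := by
      intro q
      have htop : ((PN : Subgroup N)).map (QuotientGroup.mk' I) = ⊤ := by
        refine ((PN.mapSurjective (QuotientGroup.mk'_surjective I)).3 (hp2.to_subgroup ⊤) ?_).symm
        exact le_top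
      obtain ⟨t, ht, rfl⟩ := (htop ▸ mem_top q : q ∈ ((PN : Subgroup N)).map (QuotientGroup.mk' I))
      exact ⟨t, ht, rfl⟩
    have htriv : ∀ q : N ⧸ I, q = 1 := by
      by_contra hne
      push Not at hne
      obtain ⟨q, hq⟩ := hne
      haveI : Nontrivial (N ⧸ I) := ⟨⟨q, 1, hq⟩⟩
      haveI : Group.IsNilpotent (N ⧸ I) := hp2.isNilpotent
      refine (IsSolvable.commutator_lt_top_of_nontrivial (G := N ⧸ I)).ne (eq_top_iff.2 fun r _ => ?_)
      obtain ⟨t, ht, rfl⟩ := hsurj r
      rw [← Abelianization.ker_of]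
      exact kill _ ψ hψ t ht
    have hxI : (⟨x, hTN hx⟩ : N) ∈ I := (QuotientGroup.eq_one_iff _).1 (htriv _)
    obtain ⟨a, ha, s, hs, e'⟩ := Subgroup.mem_sup_of_normal_right.1 hxI
    refine inner x hx ⟨s, hs⟩ ?_
    rw [← e', map_mul, MonoidHom.mem_ker.1 ha, one_mul]
    exact MulEquiv.ext fun w => Subtype.ext rfl

/-- **A strongly closed subgroup with at most one involution.** -/
theorem inter_le_of_unique :
    ∀ (G : Type u) [Group G] [Finite G] (T : Sylow 2 G) (S : Subgroup G),
      Cfsg.IsStronglyClosed S (T : Subgroup G) → Unique S →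
      ∀ t ∈ (T : Subgroup G), t ∈ normalClosure (S : Set G) → t ∈ S := by
  intro G _ _
  induction hn : Nat.card G using Nat.strong_induction_on generalizing G with
  | _ n IH =>
    subst hn
    intro T S hsc hu
    by_cases hcomm : ∀ x ∈ S, ∀ y ∈ S, Commute x y
    · exact inter_le_of_comm G T S hsc hu hcomm
    push Not at hcomm
    set K := normalClosure (S : Set G) with hK
    have hSK : S ≤ K := subset_normalClosure
    by_cases htop : K = ⊤
    swap
    · -- inside the closure
      intro t ht htK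
      have hidx : ¬ 2 ∣ ((T : Subgroup G).subgroupOf K).index := fun h =>
        not_dvd_relIndex_inf T h
      let TK : Sylow 2 K := IsPGroup.toSylow
        (T.2.comap_subtype : IsPGroup 2 ((T : Subgroup G).subgroupOf K)) hidx
      have hsc' : Cfsg.IsStronglyClosed (S.subgroupOf K) (TK : Subgroup K) :=
        ⟨fun s hs => hsc.1 hs, fun s hs g hg => hsc.2 _ hs g hg⟩
      have hu' : Unique (S.subgroupOf K) := fun a ha b hb ha2 hb2 => Subtype.ext
        (hu _ ha _ hb (by show orderOf (a : G) = 2; rwa [Subgroup.orderOf_coe])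
          (by show orderOf (b : G) = 2; rwa [Subgroup.orderOf_coe]))
      have hlt : Nat.card K < Nat.card G := lt_of_le_of_ne (card_le_card_group K)
        fun e => htop (eq_top_of_card_eq K e)
      have hfr := Sylow.normalizer_sup_eq_top TK
      have hgen : K ≤ (normalClosure ((S.subgroupOf K : Subgroup K) : Set K)).map K.subtype := by
        refine (Subgroup.closure_le _).2 fun y hy => ?_
        rw [Group.mem_conjugatesOfSet_iff] at hy
        obtain ⟨s, hs, hc⟩ := hy
        obtain ⟨g, rfl⟩ := isConj_iff.1 hc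
        obtain ⟨k, hk, m, hm, rfl⟩ := Subgroup.mem_sup_of_normal_left.1
          (show g ∈ K ⊔ normalizer (((TK : Subgroup K).map K.subtype : Subgroup G) : Set G) by
            rw [sup_comm, hfr]; exact mem_top _)
        have hms : m * s * m⁻¹ ∈ S := by
          obtain ⟨w, hw, e⟩ := (mem_normalizer_iff.1 hm s).1 ⟨⟨s, hSK hs⟩, hsc.1 hs, rfl⟩
          exact hsc.2 s hs m (e ▸ hw)
        refine ⟨⟨k, hk⟩ * ⟨m * s * m⁻¹, hSK hms⟩ * ⟨k, hk⟩⁻¹,
          (normalClosure_normal (s := ((S.subgroupOf K : Subgroup K) : Set K))).conj_mem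
            (⟨m * s * m⁻¹, hSK hms⟩ : K) (subset_normalClosure hms) ⟨k, hk⟩, ?_⟩
        show k * (m * s * m⁻¹) * k⁻¹ = k * m * s * (k * m)⁻¹
        group
      obtain ⟨⟨t', ht'⟩, h1, rfl⟩ := hgen htK
      exact IH _ hlt K rfl TK _ hsc' hu' ⟨t', ht'⟩ ht h1
    intro t ht _
    -- the centre of `S`
    set W := (T : Subgroup G) ⊓ centralizer (S : Set G) with hW
    have hWsc := stronglyClosed_centralizer T hsc hu
    set Z := S ⊓ W with hZ
    have hZsc : Cfsg.IsStronglyClosed Z (T : Subgroup G) := ⟨inf_le_left.trans hsc.1,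
      fun y hy g hg => ⟨hsc.2 y hy.1 g hg, hWsc.2 y hy.2 g hg⟩⟩
    set M := normalClosure (Z : Set G) with hM
    have hMT : ∀ y ∈ (T : Subgroup G), y ∈ M → y ∈ Z := inter_le_of_comm G T Z hZsc
      (fun a ha b hb => hu a ha.1 b hb.1)
      (fun a ha b hb => mem_centralizer_iff.1 hb.2.2 a ha.1)
    set π := QuotientGroup.mk' M with hπ
    have hdisj : S.map π ⊓ W.map π = ⊥ := by
      refine eq_bot_iff.2 ?_
      rintro q ⟨⟨a, ha, rfl⟩, b, hb, hab⟩
      have h1 : b⁻¹ * a ∈ Z := hMT _ (mul_mem (inv_mem hb.1) (hsc.1 ha)) ((QuotientGroup.eq).1 hab)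
      have haW : a ∈ W := by
        have := mul_mem hb h1.2
        rwa [mul_inv_cancel_left] at this
      exact mem_bot.2 ((QuotientGroup.eq_one_iff a).2 (subset_normalClosure ⟨ha, haW⟩))
    let D : ProductFusion.Pair (G ⧸ M) :=
      { P := T.mapSurjective (QuotientGroup.mk'_surjective M)
        S₁ := S.map π
        S₂ := W.map π
        comm := by
          rintro _ ⟨a, ha, rfl⟩ _ ⟨b, hb, rfl⟩
          rw [← map_mul, ← map_mul, mem_centralizer_iff.1 hb.2 a ha]
        disj := hdisj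
        sc₁ := by rw [Sylow.coe_mapSurjective]; exact Cfsg.Agent.S1250.result T S hsc M
        sc₂ := by rw [Sylow.coe_mapSurjective]; exact Cfsg.Agent.S1250.result T W hWsc M }
    set R := (Cfsg.pPrimeCore 2 (G ⧸ M)).comap π with hR
    haveI : (Cfsg.pPrimeCore 2 (G ⧸ M)).Normal := Cfsg.pPrimeCore_normal 2 _
    have hcen : ∀ (g : G), ∀ w ∈ W, g * w * g⁻¹ * w⁻¹ ∈ R := by
      intro g w hw
      have hX : normalClosure ((S.map π : Subgroup (G ⧸ M)) : Set (G ⧸ M)) = ⊤ := by
        rw [coe_map, ← map_normalClosure (S : Set G) π (QuotientGroup.mk'_surjective M), ← hK, htop,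
          map_top_of_surjective _ (QuotientGroup.mk'_surjective M)]
      show π (g * w * g⁻¹ * w⁻¹) ∈ Cfsg.pPrimeCore 2 (G ⧸ M)
      rw [map_mul, map_mul, map_mul, map_inv, map_inv, ← commutatorElement_def]
      refine ProductFusion.commutator_le_pPrimeCore D (commutator_mem_commutator ?_ ?_)
      · rw [hX]; exact mem_top _
      · exact subset_normalClosure (mem_map_of_mem π hw)
    have hRT : ∀ y ∈ (T : Subgroup G), y ∈ R → y ∈ S := by
      intro y hy hyR
      have hodd : Odd (Nat.card (Cfsg.pPrimeCore 2 (G ⧸ M))) := by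
        rw [← Nat.not_even_iff_odd, even_iff_two_dvd]
        exact CfsgLib.PCore.not_dvd_card_pPrimeCore
      have h1 : π y ∈ ((T : Subgroup G).map π) ⊓ Cfsg.pPrimeCore 2 (G ⧸ M) :=
        ⟨mem_map_of_mem π hy, hyR⟩
      rw [inf_eq_bot_of_odd (T.2.map π) hodd, mem_bot] at h1
      exact (hMT y hy ((QuotientGroup.eq_one_iff y).1 h1)).1
    have hdec := exists_mul_of_perfect T hsc hu hcomm htop
    have hTS : (T : Subgroup G) ≤ normalizer (S : Set G) := fun t ht =>
      CfsgLib.Coprime.mem_normalizer_of_forall_conj fun s hs =>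
        hsc.2 s hs t (mul_mem (mul_mem ht (hsc.1 hs)) (inv_mem ht))
    haveI : (S.subgroupOf (T : Subgroup G)).Normal := normal_subgroupOf_of_le_normalizer hTS
    letI : CommGroup ((T : Subgroup G) ⧸ S.subgroupOf (T : Subgroup G)) :=
      { (inferInstance : Group ((T : Subgroup G) ⧸ S.subgroupOf (T : Subgroup G))) with
        mul_comm := fun p q => QuotientGroup.induction_on p fun a => QuotientGroup.induction_on q fun b => by
          obtain ⟨s, hs, hw⟩ := hdec a a.2
          obtain ⟨s', hs', hw'⟩ := hdec b b.2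
          have ea : (QuotientGroup.mk a : (T : Subgroup G) ⧸ S.subgroupOf (T : Subgroup G)) =
              QuotientGroup.mk ⟨s⁻¹ * a, hw.1⟩ := by
            refine QuotientGroup.eq.2 ?_
            show (a : G)⁻¹ * (s⁻¹ * a) ∈ S
            have := (mem_normalizer_iff.1 (hTS (inv_mem a.2)) _).1 (inv_mem hs)
            rwa [inv_inv, mul_assoc] at this
          have eb : (QuotientGroup.mk b : (T : Subgroup G) ⧸ S.subgroupOf (T : Subgroup G)) =
              QuotientGroup.mk ⟨s'⁻¹ * b, hw'.1⟩ := by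
            refine QuotientGroup.eq.2 ?_
            show (b : G)⁻¹ * (s'⁻¹ * b) ∈ S
            have := (mem_normalizer_iff.1 (hTS (inv_mem b.2)) _).1 (inv_mem hs')
            rwa [inv_inv, mul_assoc] at this
          rw [ea, eb, ← QuotientGroup.mk_mul, ← QuotientGroup.mk_mul, QuotientGroup.eq]
          set u := s⁻¹ * (a : G)
          set v := s'⁻¹ * (b : G)
          show (u * v)⁻¹ * (v * u) ∈ S
          refine hRT _ (mul_mem (inv_mem (mul_mem hw.1 hw'.1)) (mul_mem hw'.1 hw.1)) ?_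
          have h1 := hcen v⁻¹ u⁻¹ (inv_mem hw)
          rwa [show v⁻¹ * u⁻¹ * v⁻¹⁻¹ * u⁻¹⁻¹ = (u * v)⁻¹ * (v * u) by group] at h1 }
    have h1 := eq_one_of_fusion_invariant T hsc.1 (QuotientGroup.mk' (S.subgroupOf (T : Subgroup G)))
      (fun x g hx hg => by
        classical
        let f : G → ((T : Subgroup G) ⧸ S.subgroupOf (T : Subgroup G)) := fun y =>
          if h : y ∈ (T : Subgroup G) then QuotientGroup.mk ⟨y, h⟩ else 1
        have hf : ∀ (y : G) (hy : y ∈ (T : Subgroup G)), f y = QuotientGroup.mk ⟨y, hy⟩ :=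
          fun y hy => dif_pos hy
        have := rel_of_conj T hsc (fun u v => f u = f v) (fun _ _ _ h1 h2 => h1.trans h2)
          (fun n hn y hy hny => by
            rw [hf y hy, hf _ hny, QuotientGroup.eq]
            show y⁻¹ * (n * y * n⁻¹) ∈ S
            obtain ⟨s, hs, hw⟩ := hdec y hy
            set w := s⁻¹ * y with hwd
            have hy' : y = s * w := by rw [hwd, mul_inv_cancel_left]
            have hsn : n * s * n⁻¹ ∈ S := (mem_normalizer_iff.1 hn s).1 hs
            have hwn : n * w * n⁻¹ ∈ (T : Subgroup G) := by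
              have := mul_mem (inv_mem (hsc.1 hsn)) hny
              rwa [hy', show (n * s * n⁻¹)⁻¹ * (n * (s * w) * n⁻¹) = n * w * n⁻¹ by group] at this
            have h1 : n * w * n⁻¹ * w⁻¹ ∈ S := hRT _ (mul_mem hwn (inv_mem hw.1)) (hcen n w hw)
            have h2 : s⁻¹ * (n * s * n⁻¹) * (n * w * n⁻¹ * w⁻¹) ∈ S :=
              S.mul_mem (S.mul_mem (S.inv_mem hs) hsn) h1
            have h3 := (mem_normalizer_iff.1 (hTS (inv_mem hw.1)) _).1 h2
            rwa [hy', show (s * w)⁻¹ * (n * (s * w) * n⁻¹) =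
              w⁻¹ * (s⁻¹ * (n * s * n⁻¹) * (n * w * n⁻¹ * w⁻¹)) * w⁻¹⁻¹ by group])
          (fun E hE a ha _ htriv y hy => by
            rw [hf y (hE hy), hf _ (hE ((mem_normalizer_iff.1 ha y).1 hy)), QuotientGroup.eq]
            exact htriv y hy)
          hx hg
        rw [hf x hx, hf _ hg] at this
        exact this.symm)
      (fun s hs => (QuotientGroup.eq_one_iff _).2 hs) ⟨t, ht⟩ (by rw [← hK, htop]; exact mem_top _)
    exact (QuotientGroup.eq_one_iff (⟨t, ht⟩ : (T : Subgroup G))).1 h1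
where
  not_dvd_relIndex_inf {G : Type u} [Group G] [Finite G] (T : Sylow 2 G) {K : Subgroup G} [K.Normal]
      (h : 2 ∣ ((T : Subgroup G).subgroupOf K).index) : False := by
    have h1 := CfsgLib.Techniques.not_dvd_relIndex_inf_normal T K
    rw [inf_relIndex_right] at h1
    exact h1 h

end CfsgLib.StrongClosed75
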