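import Cfsg.Agent.Lib.StrongClosed75.RankTwo
import Cfsg.Agent.Lib.StrongClosed75.RankOneClosure
import Cfsg.Agent.Lib.Inter10.Basic

/-!
The local overgroup of a strongly closed 2-subgroup is strongly embedded in its normal closure.
-/

set_option autoImplicit false
set_option linter.style.haveILetI false

namespace CfsgLib.StrongClosed75

open Subgroup

universe u

variable {G : Type u} [Group G] [Finite G] {T : Sylow 2 G} {S H : Subgroup G} (h : Cfg T S H)
include h

/-- The case of at most one involution. -/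
theorem Cfg.rankOne (hu : Unique S) :
    Cfsg.IsStronglyEmbedded
        ((H ⊓ normalClosure (S : Set G)).subgroupOf (normalClosure (S : Set G))) ∧
      S = (T : Subgroup G) ⊓ normalClosure (S : Set G) := by
  haveI : Fact (Nat.Prime 2) := ⟨Nat.prime_two⟩
  set X := normalClosure (S : Set G) with hX
  have hSX : S ≤ X := subset_normalClosure
  have heq : S = (T : Subgroup G) ⊓ X :=
    le_antisymm (le_inf h.closed.1 hSX) fun t ht => inter_le_of_unique G T S h.closed hu t ht.1 ht.2
  refine ⟨Cfg.stronglyEmbedded ?_ ?_ ?_, heq⟩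
  · intro hle
    refine h.top (eq_top_iff.2 fun g _ => ?_)
    let TX : Sylow 2 X := IsPGroup.toSylow
      (T.2.comap_subtype : IsPGroup 2 ((T : Subgroup G).subgroupOf X))
      (fun hd => inter_le_of_unique.not_dvd_relIndex_inf T hd)
    obtain ⟨k, hk, m, hm, rfl⟩ := Subgroup.mem_sup_of_normal_left.1
      (show g ∈ X ⊔ normalizer (((TX : Subgroup X).map X.subtype : Subgroup G) : Set G) by
        rw [sup_comm, Sylow.normalizer_sup_eq_top TX]; exact mem_top _)
    have hTX : (TX : Subgroup X).map X.subtype = S := by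
      show ((T : Subgroup G).subgroupOf X).map X.subtype = S
      rw [subgroupOf_map_subtype, ← heq]
    rw [hTX] at hm
    exact mul_mem (hle hk) (h.norm (PLocal.normalizer_le_normalizer_omegaOne 2 S hm))
  · obtain ⟨z, hz, hz2, -⟩ := h.data.exists_central
    exact ⟨z, hSX hz, h.data.le hz, hz2⟩
  · intro x hxX hx2 hxH g hgX hgx
    let TX : Sylow 2 X := IsPGroup.toSylow
      (T.2.comap_subtype : IsPGroup 2 ((T : Subgroup G).subgroupOf X))
      (fun hd => inter_le_of_unique.not_dvd_relIndex_inf T hd)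
    have hx' : IsPGroup 2 (zpowers (⟨x, hxX⟩ : X)) :=
      IsPGroup.of_card (n := 1) (by rw [Nat.card_zpowers, ← Subgroup.orderOf_coe, hx2, pow_one])
    obtain ⟨P, hP⟩ := hx'.exists_le_sylow
    obtain ⟨k, hk⟩ := MulAction.exists_smul_eq X P TX
    set a := ((k : X) : G)⁻¹
    have hzT : a⁻¹ * x * a⁻¹⁻¹ ∈ (T : Subgroup G) := by
      have h1 : k * ⟨x, hxX⟩ * k⁻¹ ∈ (TX : Subgroup X) := by
        rw [← hk, Sylow.coe_subgroup_smul]
        exact smul_mem_pointwise_smul _ (MulAut.conj k) _ (hP (mem_zpowers _))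
      have h2 : ((k * ⟨x, hxX⟩ * k⁻¹ : X) : G) ∈ (T : Subgroup G) := h1
      simpa [a] using h2
    set z := a⁻¹ * x * a⁻¹⁻¹ with hz
    have hzS : z ∈ S := by
      rw [heq]
      exact ⟨hzT, normalClosure_normal.conj_mem x hxX a⁻¹⟩
    have hz2 : orderOf z = 2 := by rw [hz, CfsgLib.Involutions.orderOf_conj_eq, hx2]
    have ha : a ∈ H := h.mem_of_conj_mem hzS (ne_one_of_invol hz2) (by
      rw [hz, show a * (a⁻¹ * x * a⁻¹⁻¹) * a⁻¹ = x by group]
      exact hxH)
    have hga : g⁻¹ * a ∈ H := h.mem_of_conj_mem hzS (ne_one_of_invol hz2) (by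
      rw [hz, show g⁻¹ * a * (a⁻¹ * x * a⁻¹⁻¹) * (g⁻¹ * a)⁻¹ = g⁻¹ * x * g by group]
      exact hgx)
    have := mul_mem hga (inv_mem ha)
    rw [mul_inv_cancel_right] at this
    simpa using inv_mem this

/-- All conclusions. -/
theorem conclusion :
    Cfsg.IsStronglyEmbedded
        ((H ⊓ normalClosure (S : Set G)).subgroupOf (normalClosure (S : Set G))) ∧
      (S = (T : Subgroup G) ⊓ normalClosure (S : Set G) ∨
        S = Cfsg.omegaOne 2 ((T : Subgroup G) ⊓ normalClosure (S : Set G))) ∧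
      (Cfsg.PRankLE 2 1 ↥S → S = (T : Subgroup G) ⊓ normalClosure (S : Set G)) := by
  by_cases hr : Cfsg.PRankLE 2 1 S
  · have hu : Unique S := by
      intro a ha b hb ha2 hb2
      have h1 := CfsgLib.Involutions.unique_involution_of_rank_one
        (CfsgLib.GWCons.RankOneCover.eq_of_rankLE hr) ((T.2.to_le h.closed.1).of_equiv Subgroup.topEquiv.symm)
      exact congrArg (fun w : (⊤ : Subgroup S) => ((w : S) : G))
        (h1 ⟨⟨a, ha⟩, mem_top _⟩ ⟨⟨b, hb⟩, mem_top _⟩
          (by rw [← Subgroup.orderOf_coe, ← Subgroup.orderOf_coe]; exact ha2)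
          (by rw [← Subgroup.orderOf_coe, ← Subgroup.orderOf_coe]; exact hb2))
    obtain ⟨h1, h2⟩ := h.rankOne hu
    exact ⟨h1, Or.inl h2, fun _ => h2⟩
  · obtain ⟨s, hs, t, ht, hs2, ht2, hne, hc⟩ := CfsgLib.Inter10.exists_pair_of_not_rank hr
    obtain ⟨h1, h2⟩ := h.rankTwo ⟨s, hs, t, ht, hs2, ht2, hne, hc⟩
    exact ⟨h1, h2, fun h' => absurd h' hr⟩

end CfsgLib.StrongClosed75
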