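import Cfsg.Agent.Lib.Techniques.FusionInduction
import Cfsg.Agent.Lib.Coprime.HyperplaneGeneration
import Cfsg.Prelude.Def_TwoFusion

/-!
Fusion modulo a strongly closed subgroup `S` of a Sylow subgroup is controlled by the normalizer of `S`
and by the elements of order prime to `p` acting trivially modulo `S`; consequences for transfer.
-/

set_option autoImplicit false
set_option linter.style.haveILetI false
set_option linter.unusedSectionVars false

namespace CfsgLib.StrongClosed75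

open Subgroup CfsgLib.Techniques CfsgLib.Techniques.Fusion

variable {G : Type*} [Group G] [Finite G] {p : ℕ} [hp : Fact p.Prime]

/-- A subgroup containing a Sylow `p`-subgroup and all elements of order prime to `p` is everything. -/
theorem eq_top_of_sylow_of_pprime {A₀ : Subgroup G} (P : Sylow p G) (hP : (P : Subgroup G) ≤ A₀)
    (hodd : ∀ a : G, ¬ p ∣ orderOf a → a ∈ A₀) : A₀ = ⊤ := by
  rw [← index_eq_one]
  by_contra hne
  obtain ⟨r, hr, hrd⟩ := Nat.exists_prime_and_dvd hne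
  haveI := Fact.mk hr
  obtain ⟨R⟩ := (inferInstance : Nonempty (Sylow r G))
  rcases eq_or_ne r p with rfl | hrp
  · exact P.not_dvd_index (hrd.trans (index_dvd_of_le hP))
  refine R.not_dvd_index (hrd.trans (index_dvd_of_le fun a ha => hodd a fun hpa => ?_))
  obtain ⟨k, hk⟩ := IsPGroup.iff_orderOf.1 R.2 ⟨a, ha⟩
  rw [← Subgroup.orderOf_coe] at hk
  rw [hk] at hpa
  exact hrp ((Nat.prime_dvd_prime_iff_eq hp.out hr).1 (hp.out.dvd_of_dvd_pow hpa)).symm

/-- **Fusion modulo a strongly closed subgroup.** -/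
theorem rel_of_conj (T : Sylow p G) {S : Subgroup G}
    (hsc : Cfsg.IsStronglyClosed S (T : Subgroup G)) (R : G → G → Prop)
    (htrans : ∀ x y z, R x y → R y z → R x z)
    (hN : ∀ n ∈ normalizer (S : Set G), ∀ x ∈ (T : Subgroup G),
      n * x * n⁻¹ ∈ (T : Subgroup G) → R x (n * x * n⁻¹))
    (hodd : ∀ D ≤ (T : Subgroup G), ∀ a ∈ normalizer (D : Set G), ¬ p ∣ orderOf a →
      (∀ d ∈ D, d⁻¹ * (a * d * a⁻¹) ∈ S) → ∀ x ∈ D, R x (a * x * a⁻¹))
    {x g : G} (hx : x ∈ (T : Subgroup G)) (hg : g * x * g⁻¹ ∈ (T : Subgroup G)) :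
    R x (g * x * g⁻¹) := by
  classical
  have hTS : (T : Subgroup G) ≤ normalizer (S : Set G) := fun t ht =>
    CfsgLib.Coprime.mem_normalizer_of_forall_conj fun s hs =>
      hsc.2 s hs t (mul_mem (mul_mem ht (hsc.1 hs)) (inv_mem ht))
  let P : Subgroup G → G → Prop := fun D h => ∀ x ∈ D, R x (h * x * h⁻¹)
  have hP : IsFusionClosed (T : Subgroup G) P := by
    refine ⟨fun hle h x hx => h x (hle hx), fun {D h h'} _ _ h1 h2 x hx => ?_⟩
    rw [show h' * h * x * (h' * h)⁻¹ = h' * (h * x * h⁻¹) * h'⁻¹ by group]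
    exact htrans _ _ _ (h1 x hx) (h2 _ (conj_mem_map_conj h hx))
  suffices H : ∀ j k : ℕ, Nat.card (T : Subgroup G) ≤ k + j → HoldsAbove (T : Subgroup G) P k by
    exact H (Nat.card (T : Subgroup G)) 0 (by omega) (zpowers x) g Nat.card_pos (zpowers_le.2 hx)
      (by rw [MonoidHom.map_zpowers]; exact zpowers_le.2 hg) x (mem_zpowers x)
  intro j
  induction j with
  | zero =>
    intro k hk D h hlt hD _
    exact absurd (Nat.le_of_dvd Nat.card_pos (card_dvd_of_le hD)) (by omega)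
  | succ j ih =>
    intro k hk
    refine holdsAbove_of_family T hP Set.univ k (fun D hD _ => ?_) fun U _ hkU hU n hn => ?_
    · obtain ⟨g, hg⟩ := exists_isFN_conj T (T.2.to_le hD)
      exact ⟨_, trivial, ⟨g, rfl⟩, hg⟩
    have hnU : U.map (MulAut.conj n).toMonoidHom = U := map_conj_eq_self_iff.2 hn
    rcases Nat.lt_or_ge (k + 1) (Nat.card U) with hlt | hge
    · exact ih (k + 1) (by omega) U n hlt hU.1 (by rw [hnU]; exact hU.1)
    by_cases hSU : S ≤ U
    · refine fun x hx => hN n ?_ x (hU.1 hx) (hU.1 ((mem_normalizer_iff.1 hn x).1 hx))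
      exact CfsgLib.Coprime.mem_normalizer_of_forall_conj fun s hs =>
        hsc.2 s hs n (hU.1 ((mem_normalizer_iff.1 hn s).1 (hSU hs)))
    -- the elements trivial modulo `S`
    set N := normalizer (U : Set G) with hNdef
    have hconjS : ∀ {m y : G}, m ∈ N → y ∈ U → y ∈ S → m * y * m⁻¹ ∈ S := fun {m y} hm hy hyS =>
      hsc.2 y hyS m (hU.1 ((mem_normalizer_iff.1 hm y).1 hy))
    let A : Subgroup N :=
      { carrier := {a | ∀ d ∈ U, d⁻¹ * ((a : G) * d * (a : G)⁻¹) ∈ S}
        one_mem' := fun d _ => by simp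
        mul_mem' := fun {a b} ha hb d hd => by
          have hd' : (b : G) * d * (b : G)⁻¹ ∈ U := (mem_normalizer_iff.1 b.2 d).1 hd
          rw [show d⁻¹ * ((↑(a * b) : G) * d * (↑(a * b) : G)⁻¹) =
            d⁻¹ * ((b : G) * d * (b : G)⁻¹) * (((b : G) * d * (b : G)⁻¹)⁻¹ *
              ((a : G) * ((b : G) * d * (b : G)⁻¹) * (a : G)⁻¹)) by
            rw [Subgroup.coe_mul]; group]
          exact mul_mem (hb d hd) (ha _ hd')
        inv_mem' := fun {a} ha d hd => by
          have hd' : (a : G)⁻¹ * d * (a : G)⁻¹⁻¹ ∈ U := (mem_normalizer_iff.1 (inv_mem a.2) d).1 hd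
          have h1 := ha _ hd'
          rw [show d⁻¹ * ((↑(a⁻¹) : G) * d * (↑(a⁻¹) : G)⁻¹) =
            (((a : G)⁻¹ * d * (a : G)⁻¹⁻¹)⁻¹ *
              ((a : G) * ((a : G)⁻¹ * d * (a : G)⁻¹⁻¹) * (a : G)⁻¹))⁻¹ by
            rw [Subgroup.coe_inv]; group]
          exact inv_mem h1 }
    haveI hAn : A.Normal := ⟨fun a ha m d hd => by
      have hd' : (m : G)⁻¹ * d * (m : G)⁻¹⁻¹ ∈ U := (mem_normalizer_iff.1 (inv_mem m.2) d).1 hd
      have hu : ((m : G)⁻¹ * d * (m : G)⁻¹⁻¹)⁻¹ *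
          ((a : G) * ((m : G)⁻¹ * d * (m : G)⁻¹⁻¹) * (a : G)⁻¹) ∈ U :=
        mul_mem (inv_mem hd') ((mem_normalizer_iff.1 a.2 _).1 hd')
      have := hconjS m.2 hu (ha _ hd')
      rw [show d⁻¹ * ((↑(m * a * m⁻¹) : G) * d * (↑(m * a * m⁻¹) : G)⁻¹) =
        (m : G) * (((m : G)⁻¹ * d * (m : G)⁻¹⁻¹)⁻¹ *
          ((a : G) * ((m : G)⁻¹ * d * (m : G)⁻¹⁻¹) * (a : G)⁻¹)) * (m : G)⁻¹ by
        simp only [Subgroup.coe_mul, Subgroup.coe_inv]; group]
      exact this⟩
    -- the Sylow subgroup of `N` in `T`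
    let TN : Subgroup N := ((T : Subgroup G) ⊓ N).subgroupOf N
    let PN : Sylow p N := IsPGroup.toSylow
      ((T.2.to_le inf_le_left).comap_subtype : IsPGroup p TN) hU.2
    have hPN : ∀ {a : N}, a ∈ (PN : Subgroup N) ↔ (a : G) ∈ (T : Subgroup G) :=
      fun {a} => ⟨fun h => h.1, fun h => ⟨h, a.2⟩⟩
    let BA : Subgroup A := (PN : Subgroup N).subgroupOf A
    have hBA : ¬ p ∣ BA.index := not_dvd_relIndex_inf_normal PN A |> fun h => by
      rwa [inf_relIndex_right] at h
    let PA : Sylow p A := IsPGroup.toSylow (PN.2.comap_subtype : IsPGroup p BA) hBA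
    have hfrat := Sylow.normalizer_sup_eq_top PA
    -- the normaliser part
    obtain ⟨u, ⟨huS, huN⟩, huU⟩ : ∃ u, (u ∈ S ∧ u ∈ N) ∧ u ∉ U := by
      have hUS : U ≤ normalizer (S : Set G) := hU.1.trans hTS
      have hlt : U < U ⊔ S := left_lt_sup.2 hSU
      have h1 := lt_inf_normalizer (p := p) (T.2.to_le (sup_le hU.1 hsc.1)) hlt
      obtain ⟨z, ⟨hz, hzN⟩, hzU⟩ := SetLike.exists_of_lt h1
      obtain ⟨d, hd, s, hs, rfl⟩ := exists_mul_of_mem_sup hUS hz
      refine ⟨s, ⟨hs, ?_⟩, fun h => hzU (mul_mem hd h)⟩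
      have := N.mul_mem (N.inv_mem (le_normalizer hd)) hzN
      rwa [inv_mul_cancel_left] at this
    have huA : (⟨u, huN⟩ : N) ∈ A := fun d hd => by
      rw [show d⁻¹ * (u * d * u⁻¹) = (d⁻¹ * u * d) * u⁻¹ by group]
      refine mul_mem ?_ (inv_mem huS)
      have := (mem_normalizer_iff.1 (hTS (inv_mem (hU.1 hd))) u).1 huS
      rwa [inv_inv] at this
    have hnorm : ∀ b ∈ normalizer ((((PA : Subgroup A).map A.subtype) : Subgroup N) : Set N),
        ∀ y ∈ U, R y ((b : G) * y * (b : G)⁻¹) := by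
      intro b hb
      set V : Subgroup G := ((PA : Subgroup A).map A.subtype).map N.subtype with hV
      have hVT : V ≤ (T : Subgroup G) := by
        rintro _ ⟨_, ⟨a, ha, rfl⟩, rfl⟩
        exact hPN.1 ha
      have hU' : U ⊔ V ≤ (T : Subgroup G) := sup_le hU.1 hVT
      have hbV : (U ⊔ V).map (MulAut.conj (b : G)).toMonoidHom ≤ (T : Subgroup G) := by
        rw [Subgroup.map_sup, map_conj_eq_self_iff.2 b.2]
        refine sup_le hU.1 ?_
        rintro _ ⟨_, ⟨w, hw, rfl⟩, rfl⟩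
        exact hVT ⟨b * w * b⁻¹, (mem_normalizer_iff.1 hb w).1 hw, by simp⟩
      have huV : u ∈ V := ⟨⟨u, huN⟩, ⟨⟨⟨u, huN⟩, huA⟩, hPN.2 (hsc.1 huS), rfl⟩, rfl⟩
      have hcard : k + 1 < Nat.card ↥(U ⊔ V) := by
        have := card_lt_of_lt (lt_of_le_of_ne (le_sup_left (a := U) (b := V))
          fun e => huU (e ▸ le_sup_right (a := U) huV))
        omega
      exact fun y hy => ih (k + 1) (by omega) (U ⊔ V) b hcard hU' hbV y (mem_sup_left hy)
    -- the part trivial modulo `S`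
    have hArel : ∀ a : A, ∀ y ∈ U, R y (((a : N) : G) * y * ((a : N) : G)⁻¹) := by
      let A₀ : Submonoid A :=
        { carrier := {a | ∀ y ∈ U, R y (((a : N) : G) * y * ((a : N) : G)⁻¹)}
          one_mem' := fun y hy => hN ((1 : N) : G) (one_mem _) y (hU.1 hy) (by simpa using hU.1 hy)
          mul_mem' := fun {a b} ha hb y hy => by
            have hy' : ((b : N) : G) * y * ((b : N) : G)⁻¹ ∈ U :=
              (mem_normalizer_iff.1 (b : N).2 y).1 hy
            rw [show ((↑(a * b) : N) : G) * y * ((↑(a * b) : N) : G)⁻¹ =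
              ((a : N) : G) * (((b : N) : G) * y * ((b : N) : G)⁻¹) * ((a : N) : G)⁻¹ by
              simp only [Subgroup.coe_mul]; group]
            exact htrans _ _ _ (hb y hy) (ha _ hy') }
      let A₁ : Subgroup A :=
        { A₀ with
          inv_mem' := fun {a} ha => by
            have e : a⁻¹ = a ^ (orderOf a - 1) := by
              refine inv_eq_of_mul_eq_one_right ?_
              rw [← pow_succ', Nat.sub_add_cancel (orderOf_pos a), pow_orderOf_eq_one]
            show a⁻¹ ∈ A₀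
            rw [e]
            exact pow_mem ha _ }
      have htop : A₁ = ⊤ := eq_top_of_sylow_of_pprime PA
        (fun a ha y hy => hN ((a : N) : G) (hTS (hPN.1 ha)) y (hU.1 hy)
          (hU.1 ((mem_normalizer_iff.1 (a : N).2 y).1 hy)))
        fun a ha y hy => hodd U hU.1 ((a : N) : G) (a : N).2 (by
          rwa [Subgroup.orderOf_coe, Subgroup.orderOf_coe]) a.2 y hy
      intro a
      have : a ∈ A₁ := htop ▸ mem_top a
      exact this
    obtain ⟨a, ha, b, hb, e⟩ := Subgroup.mem_sup_of_normal_left.1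
      (show (⟨n, hn⟩ : N) ∈ A ⊔ normalizer ((((PA : Subgroup A).map A.subtype) : Subgroup N) : Set N)
        by rw [sup_comm, hfrat]; exact mem_top _)
    intro y hy
    have e' : (a : G) * (b : G) = n := congrArg Subtype.val e
    have hy' : (b : G) * y * (b : G)⁻¹ ∈ U := (mem_normalizer_iff.1 b.2 y).1 hy
    rw [← e', show (a : G) * b * y * ((a : G) * b)⁻¹ = a * ((b : G) * y * (b : G)⁻¹) * (a : G)⁻¹ by group]
    exact htrans _ _ _ (hnorm b hb y hy) (hArel ⟨a, ha⟩ _ hy')

/-- A fusion invariant homomorphism to a commutative group killing `S` kills `T` in its closure. -/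
theorem eq_one_of_fusion_invariant (T : Sylow p G) {S : Subgroup G} (hST : S ≤ (T : Subgroup G))
    {A : Type*} [CommGroup A] (φ : (T : Subgroup G) →* A)
    (hinv : ∀ (x g : G) (hx : x ∈ (T : Subgroup G)) (hg : g * x * g⁻¹ ∈ (T : Subgroup G)),
      φ ⟨g * x * g⁻¹, hg⟩ = φ ⟨x, hx⟩)
    (hS : ∀ (s : G) (hs : s ∈ S), φ ⟨s, hST hs⟩ = 1)
    (x : (T : Subgroup G)) (hx : (x : G) ∈ normalClosure (S : Set G)) : φ x = 1 := by
  classical
  set τ := MonoidHom.transfer φ with hτ
  have hpow : ∀ x : (T : Subgroup G), τ (x : G) = φ x ^ (T : Subgroup G).index := by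
    intro x
    haveI := Fintype.ofFinite
      (Quotient (MulAction.orbitRel (Subgroup.zpowers (x : G)) (G ⧸ (T : Subgroup G))))
    rw [hτ, MonoidHom.transfer_eq_prod_quotient_orbitRel_zpowers_quot,
      index_eq_sum_minimalPeriod (T : Subgroup G) (x : G), ← Finset.prod_pow_eq_pow_sum]
    refine Finset.prod_congr rfl fun q _ => ?_
    set g₀ : G := q.out.out
    set k := Function.minimalPeriod ((x : G) • ·) q.out
    have hmem : g₀⁻¹ * (x : G) ^ k * g₀ ∈ (T : Subgroup G) :=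
      QuotientGroup.out_conj_pow_minimalPeriod_mem _ (x : G) q.out
    rw [← map_pow]
    show φ ⟨_, hmem⟩ = φ (x ^ k)
    have h := hinv ((x : G) ^ k) g₀⁻¹ (pow_mem x.2 k) (by rw [inv_inv]; exact hmem)
    simp only [inv_inv] at h
    exact h
  have hker : normalClosure (S : Set G) ≤ τ.ker := normalClosure_le_normal fun s hs => by
    rw [SetLike.mem_coe, MonoidHom.mem_ker]
    exact (hpow ⟨s, hST hs⟩).trans (by rw [hS s hs, one_pow])
  have h1 : φ x ^ (T : Subgroup G).index = 1 := (hpow x).symm.trans (hker hx)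
  obtain ⟨k, hk⟩ := T.2 x
  have h2 : φ x ^ p ^ k = 1 := by rw [← map_pow, hk, map_one]
  refine orderOf_eq_one_iff.1 (Nat.eq_one_of_dvd_coprimes ?_
    (orderOf_dvd_of_pow_eq_one h2) (orderOf_dvd_of_pow_eq_one h1))
  exact Nat.Coprime.pow_left k ((hp.out.coprime_iff_not_dvd).2 T.not_dvd_index)

end CfsgLib.StrongClosed75
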