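import Cfsg.Agent.Lib.RankOneRecog.QStruct
import Cfsg.Agent.Lib.RankOneRecog.Abelian
import Cfsg.Agent.Lib.StrongCrit.CentralThree.UnitaryTorus

/-!
In a rank one set-up the stabiliser of `a` acts faithfully and irreducibly on `Q` modulo its involutions.
-/

set_option autoImplicit false

noncomputable section

namespace CfsgLib.StrongClosed75

open CfsgLib.RankOneInvol CfsgLib.RankOneTwo CfsgLib.RankOneRecog
open MulAction (stabilizer mem_stabilizer_iff)
open scoped commutatorElement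

universe u v

set_option linter.style.haveILetI false
set_option linter.unusedSectionVars false

variable {G : Type u} {Ω : Type v} [Group G] [Finite G] [MulAction G Ω] [FaithfulSMul G Ω]
  {a : Ω} {t : G} {Q : Subgroup G} (hS : Cfsg.IsRankOneSetup G Ω a t Q)
  (h2 : ∃ x y : G, x ≠ 1 ∧ y ≠ 1 ∧ x ≠ y ∧ x * x = 1 ∧ y * y = 1 ∧ x * y = y * x)
include hS h2

theorem noncomm_of_ne (hne : Zsub G a ≠ Q) : ∃ x y : Q, x * y ≠ y * x := by
  by_contra hc
  push Not at hc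
  exact hne (Subgroup.eq_of_le_of_card_ge (Zsub_le hS h2)
    (card_eq_of_comm hS h2 fun x hx y hy => congrArg Subtype.val (hc ⟨x, hx⟩ ⟨y, hy⟩)).le)

/-- commutators of `Q` lie in `Zsub` -/
theorem commutator_mem_Zsub {x y : G} (hx : x ∈ Q) (hy : y ∈ Q) : ⁅x, y⁆ ∈ Zsub G a := by
  by_cases hne : Zsub G a = Q
  · rw [hne, commutatorElement_def]
    exact Q.mul_mem (Q.mul_mem (Q.mul_mem hx hy) (Q.inv_mem hx)) (Q.inv_mem hy)
  · exact comm_mem_Zsub hS h2 (noncomm_of_ne hS h2 hne) hx hy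

/-- an element of `D` acting trivially on `Q` modulo `Zsub` is trivial -/
theorem eq_one_of_trivial_mod (hne : Zsub G a ≠ Q) {d : G} (hd : d ∈ twoPt G a t)
    (hm : ∀ x ∈ Q, x⁻¹ * (d * x * d⁻¹) ∈ Zsub G a) : d = 1 := by
  have hna := noncomm_of_ne hS h2 hne
  obtain ⟨x₀, hx₀, hx₀Z⟩ : ∃ x ∈ Q, x ∉ Zsub G a := by
    by_contra hc
    push Not at hc
    exact hne (le_antisymm (Zsub_le hS h2) hc)
  -- `d` centralises `Zsub`
  have hsq : ∀ y ∈ Q, d * (y * y) = y * y * d := by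
    intro y hy
    set w := y⁻¹ * (d * y * d⁻¹) with hw
    have hwZ : w ∈ Zsub G a := hm y hy
    have e : d * y * d⁻¹ = y * w := by rw [hw]; group
    have e2 : d * (y * y) * d⁻¹ = y * y := by
      calc d * (y * y) * d⁻¹ = (d * y * d⁻¹) * (d * y * d⁻¹) := by group
        _ = y * (w * y) * w := by rw [e]; group
        _ = y * y * (w * w) := by rw [Zsub_comm hS h2 hwZ hy]; group
        _ = y * y := by rw [Zsub_sq hS h2 hwZ, mul_one]
    exact mul_inv_eq_iff_eq_mul.1 e2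
  have hZ : ∀ z ∈ Zsub G a, d * z = z * d := by
    intro z hz
    by_cases hz1 : z = 1
    · rw [hz1, mul_one, one_mul]
    obtain ⟨k, ⟨hk, hkz⟩, -⟩ : ∃! k, k ∈ Ksub G a t ∧ k * (x₀ * x₀) * k⁻¹ = z := by
      obtain ⟨k, hk, hu⟩ := Ksub_regular hS h2 (sq_mem_Zsub hS h2 hna hx₀)
        (fun e => hx₀Z (mem_Zsub_of_sq hS h2 hx₀ e)) hz hz1
      exact ⟨k, ⟨k.2, hk⟩, fun l hl => congrArg Subtype.val (hu ⟨l, hl.1⟩ hl.2)⟩
    have hy := hsq (k * x₀ * k⁻¹) (Q_conj hS (mem_twoPt.1 (Ksub_le hS h2 hk)).1 hx₀)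
    rwa [show k * x₀ * k⁻¹ * (k * x₀ * k⁻¹) = k * (x₀ * x₀) * k⁻¹ by group, hkz] at hy
  -- hence `Q`
  suffices hQ : ∀ x ∈ Q, d * x = x * d by
    refine eq_of_smul_eq_smul (α := Ω) fun c => ?_
    rw [one_smul]
    by_cases h : c = a
    · rw [h]; exact (mem_twoPt.1 hd).1
    obtain ⟨q, hq, rfl⟩ := Q_trans hS h
    rw [smul_smul, hQ q hq, mul_smul, (mem_twoPt.1 hd).2]
  intro x hx
  set w := x⁻¹ * (d * x * d⁻¹) with hw
  have hwZ : w ∈ Zsub G a := hm x hx
  have hn : ∀ n : ℕ, d ^ n * x = x * w ^ n * d ^ n := by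
    intro n
    induction n with
    | zero => simp
    | succ n ihn =>
      have hdx : d * x = x * w * d := by rw [hw]; group
      calc d ^ (n + 1) * x = d * (d ^ n * x) := by rw [pow_succ', mul_assoc]
        _ = d * x * w ^ n * d ^ n := by rw [ihn]; group
        _ = x * w * (d * w ^ n) * d ^ n := by rw [hdx]; group
        _ = x * w * (w ^ n * d) * d ^ n := by rw [((show Commute d w from hZ w hwZ).pow_right n).eq]
        _ = x * w ^ (n + 1) * d ^ (n + 1) := by rw [pow_succ' w, pow_succ' d]; group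
  obtain ⟨m, hm'⟩ := odd_twoPt hS hd
  have h1 := hn (orderOf d)
  rw [pow_orderOf_eq_one, one_mul, mul_one, hm', pow_succ, pow_mul, pow_two w, Zsub_sq hS h2 hwZ,
    one_pow, one_mul] at h1
  have hw1 : w = 1 := mul_eq_left.1 h1.symm
  have hdx : d * x = x * w * d := by rw [hw]; group
  rw [hdx, hw1, mul_one]

/-- an element of `Ksub` fixing a coset of `Zsub` in `Q` other than `Zsub` is trivial -/
theorem eq_one_of_fix_mod {k x : G} (hk : k ∈ Ksub G a t) (hx : x ∈ Q) (hxZ : x ∉ Zsub G a)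
    (h : x⁻¹ * (k * x * k⁻¹) ∈ Zsub G a) : k = 1 := by
  letI := kComm hS h2; letI := kAct hS h2
  have := (qSetting hS h2).eq_one_of_coset (C := SuzukiTwo.invols Q)
    (fun l y hy => (qSetting hS h2).smul_mem_invols l hy) (z := ⟨x, hx⟩)
    (fun e => hxZ ((mem_invols_Q hS h2).1 e)) (k := ⟨k, hk⟩) ((mem_invols_Q hS h2).2 h)
  exact congrArg Subtype.val this

theorem exists_Ksub_ne_one : ∃ k ∈ Ksub G a t, k ≠ 1 := by
  obtain ⟨k, hk, hk1⟩ := exists_invSet_ne_one hS h2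
  exact ⟨k, (mem_Ksub_iff hS h2).2 hk, hk1⟩

/-- the order of a subgroup between `Zsub` and `Q` invariant under `Ksub` -/
theorem card_of_between {C : Subgroup G} (hZC : Zsub G a ≤ C) (hCQ : C ≤ Q)
    (hC : ∀ k ∈ Ksub G a t, ∀ x ∈ C, k * x * k⁻¹ ∈ C) :
    ∃ j : ℕ, 1 ≤ j ∧ Nat.card C = Nat.card (Zsub G a) ^ j := by
  classical
  haveI : Fact (Nat.Prime 2) := ⟨Nat.prime_two⟩
  obtain ⟨n, hn, hq, -⟩ := exists_exponent hS h2
  have hK := card_Zsub hS h2
  obtain ⟨m, hm⟩ := ((isPGroup_two_Q hS h2).to_le hCQ).exists_card_eq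
  let X := {x : G // x ∈ C ∧ x ∉ Zsub G a}
  haveI hnz : ∀ k : Ksub G a t, ∀ z, z ∈ Zsub G a ↔ (k : G) * z * (k : G)⁻¹ ∈ Zsub G a := fun k z => by
    have ha := (mem_twoPt.1 (Ksub_le hS h2 k.2)).1
    refine ⟨fun hz => Zsub_conj hS h2 ha hz, fun hz => ?_⟩
    have := Zsub_conj hS h2 (g := (k : G)⁻¹) (inv_smul_eq_iff.2 ha.symm) hz
    simpa [mul_assoc] using this
  letI act : MulAction (Ksub G a t) X :=
    { smul := fun k x => ⟨(k : G) * x * (k : G)⁻¹, hC k k.2 x x.2.1, fun e => x.2.2 ((hnz k x).2 e)⟩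
      one_smul := fun x => Subtype.ext (by show (1 : G) * x * (1 : G)⁻¹ = x; simp)
      mul_smul := fun k l x => Subtype.ext (by
        show (k : G) * l * x * ((k : G) * l)⁻¹ = (k : G) * ((l : G) * x * (l : G)⁻¹) * (k : G)⁻¹
        group) }
  have hfree : ∀ x : X, stabilizer (Ksub G a t) x = ⊥ := by
    intro x
    rw [eq_bot_iff]
    intro k hk
    have e : (k : G) * x * (k : G)⁻¹ = x := congrArg Subtype.val (mem_stabilizer_iff.1 hk)
    refine Subgroup.mem_bot.2 (by_contra fun hk1 => x.2.2 ?_)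
    rw [invSet_fpf hS ((mem_Ksub_iff hS h2).1 k.2) (fun h => hk1 (Subtype.ext h)) (hCQ x.2.1)
      (mul_inv_eq_iff_eq_mul.1 e)]
    exact one_mem _
  have hdvd : Nat.card (Ksub G a t) ∣ Nat.card X := by
    rw [Nat.card_congr (MulAction.selfEquivOrbitsQuotientProd hfree), Nat.card_prod]
    exact dvd_mul_left _ _
  have hsum : Nat.card X + Nat.card (Zsub G a) = Nat.card C := by
    rw [Nat.card_congr (Equiv.subtypeSubtypeEquivSubtypeInter (fun x => x ∈ C) (fun x => x ∉ Zsub G a)).symm,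
      show Nat.card (Zsub G a) = Nat.card {x : C // (x : G) ∈ Zsub G a} from Nat.card_congr
        ⟨fun z => ⟨⟨z, hZC z.2⟩, z.2⟩, fun x => ⟨x.1.1, x.2⟩, fun z => rfl, fun x => rfl⟩,
      add_comm, ← Nat.card_sum, Nat.card_congr (Equiv.sumCompl fun x : C => (x : G) ∈ Zsub G a)]
  have hnm : n ≤ m := (Nat.pow_le_pow_iff_right (show 1 < 2 by norm_num)).1 (by
    rw [← hq, ← hm]; exact Subgroup.card_le_card_group (Zsub G a) |>.trans' le_rfl |> fun _ =>
      Nat.le_of_dvd Nat.card_pos (Subgroup.card_dvd_of_le hZC))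
  obtain ⟨i, rfl⟩ := Nat.exists_eq_add_of_le hnm
  have hKq : Nat.card (Ksub G a t) = 2 ^ n - 1 := by omega
  have hX : Nat.card X = 2 ^ n * (2 ^ i - 1) := by
    rw [Nat.mul_sub, mul_one, ← pow_add]; omega
  rw [hX, hKq] at hdvd
  have hco : Nat.Coprime (2 ^ n - 1) (2 ^ n) := by
    have h1 := Nat.one_le_two_pow (n := n)
    exact Nat.coprime_self_sub_left h1 |>.mpr (Nat.coprime_one_left _)
  have hdi : n ∣ i := by
    have h1 := Nat.gcd_eq_left (hco.dvd_of_dvd_mul_left hdvd)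
    rw [Nat.pow_sub_one_gcd_pow_sub_one] at h1
    have h2' : 2 ^ Nat.gcd n i = 2 ^ n := by
      have := Nat.one_le_two_pow (n := Nat.gcd n i)
      have := Nat.one_le_two_pow (n := n)
      omega
    exact Nat.gcd_eq_left_iff_dvd.1 (Nat.pow_right_injective le_rfl h2')
  obtain ⟨j, rfl⟩ := hdi
  exact ⟨j + 1, by omega, by rw [hm, hq, ← pow_mul, mul_add, mul_one, add_comm]⟩

/-- only `Zsub` and `Q` lie between `Zsub` and `Q` invariant under the stabiliser of `a` -/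
theorem eq_or_eq_of_between {C : Subgroup G} (hZC : Zsub G a ≤ C) (hCQ : C ≤ Q)
    (hC : ∀ g ∈ stabilizer G a, ∀ x ∈ C, g * x * g⁻¹ ∈ C) : C = Zsub G a ∨ C = Q := by
  classical
  by_cases hZQ : Zsub G a = Q
  · exact Or.inr (le_antisymm hCQ (hZQ ▸ hZC))
  by_cases hCZ : C = Zsub G a
  · exact Or.inl hCZ
  right
  by_contra hCne
  have hna := noncomm_of_ne hS h2 hZQ
  set q := Nat.card (Zsub G a) with hq
  have hq1 : 1 < q := by
    obtain ⟨n, hn, hqn, -⟩ := exists_exponent hS h2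
    rw [hq, hqn]
    exact Nat.one_lt_two_pow (by omega)
  have hKC : ∀ {C' : Subgroup G}, (∀ g ∈ stabilizer G a, ∀ x ∈ C', g * x * g⁻¹ ∈ C') →
      ∀ k ∈ Ksub G a t, ∀ x ∈ C', k * x * k⁻¹ ∈ C' := fun h k hk =>
    h k (mem_stabilizer_iff.2 (mem_twoPt.1 (Ksub_le hS h2 hk)).1)
  obtain ⟨j, hj, hjC⟩ := card_of_between hS h2 hZC hCQ (hKC hC)
  have hCZlt : q < Nat.card C := (Subgroup.card_le_card_group (Zsub G a)).trans' le_rfl |> fun _ =>
    lt_of_le_of_ne (Nat.le_of_dvd Nat.card_pos (Subgroup.card_dvd_of_le hZC))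
      fun e => hCZ (Subgroup.eq_of_le_of_card_ge hZC e.ge).symm
  have hCQlt : Nat.card C < Nat.card Q :=
    lt_of_le_of_ne (Nat.le_of_dvd Nat.card_pos (Subgroup.card_dvd_of_le hCQ))
      fun e => hCne (Subgroup.eq_of_le_of_card_ge hCQ e.ge)
  have hj2 : 2 ≤ j := by
    by_contra hlt
    rw [hjC, show j = 1 by omega, pow_one] at hCZlt
    exact lt_irrefl _ hCZlt
  rcases card_Q_cases hS h2 hna with hc | hc
  · rw [hjC, hc] at hCQlt
    exact absurd ((Nat.pow_lt_pow_iff_right hq1).1 hCQlt) (by omega)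
  rw [hjC, hc, Nat.pow_lt_pow_iff_right hq1] at hCQlt
  obtain rfl : j = 2 := by omega
  -- the torus element
  obtain ⟨k, hk, p, hp, hp2, hpq, hko, hkZ⟩ :=
    StrongCrit.CentralThree.exists_unitary_torus hS h2 hna hc
  rw [← hq] at hpq
  haveI := Fact.mk hp
  have hka := (mem_twoPt.1 hk).1
  -- the elements fixed modulo `Zsub`
  let F : Subgroup G :=
    { carrier := {x | x ∈ Q ∧ x⁻¹ * (k * x * k⁻¹) ∈ Zsub G a}
      one_mem' := ⟨Q.one_mem, by simp⟩
      mul_mem' := fun {x y} hx hy => ⟨Q.mul_mem hx.1 hy.1, by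
        have hc := Zsub_comm hS h2 hx.2 hy.1
        rw [show (x * y)⁻¹ * (k * (x * y) * k⁻¹) =
          y⁻¹ * (x⁻¹ * (k * x * k⁻¹) * y) * (y⁻¹ * (k * y * k⁻¹)) by group, hc,
          ← mul_assoc y⁻¹, inv_mul_cancel, one_mul]
        exact mul_mem hx.2 hy.2⟩
      inv_mem' := fun {x} hx => ⟨Q.inv_mem hx.1, by
        have hc := Zsub_comm hS h2 (inv_mem hx.2) (Q.inv_mem hx.1)
        rw [show x⁻¹⁻¹ * (k * x⁻¹ * k⁻¹) = x * ((x⁻¹ * (k * x * k⁻¹))⁻¹ * x⁻¹) by group, hc,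
          ← mul_assoc, mul_inv_cancel, one_mul]
        exact inv_mem hx.2⟩ }
  have hFQ : F ≤ Q := fun x hx => hx.1
  have hZF : Zsub G a ≤ F := fun z hz => ⟨Zsub_le hS h2 hz, by
    rw [(hkZ z hz).eq, mul_inv_cancel_right, inv_mul_cancel]; exact one_mem _⟩
  -- `k` commutes with `Ksub`
  have hkK : ∀ l ∈ Ksub G a t, k * l = l * k := by
    intro l hl
    set c := k * l * k⁻¹ with hcd
    have hcK : c ∈ Ksub G a t := Ksub_conj hS h2 hk hl
    obtain ⟨z, hz, hz1⟩ : ∃ z ∈ Zsub G a, z ≠ 1 := by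
      obtain ⟨s, s', -, hs, -⟩ := exists_two_invols hS h2
      exact ⟨s, Subgroup.subset_closure hs, (mem_invols.1 hs).2.1⟩
    have hlz := Zsub_conj hS h2 (mem_twoPt.1 (Ksub_le hS h2 hl)).1 hz
    have e1 : c * z * c⁻¹ = l * z * l⁻¹ := by
      calc c * z * c⁻¹ = k * (l * (k⁻¹ * z * k) * l⁻¹) * k⁻¹ := by rw [hcd]; group
        _ = k * (l * z * l⁻¹) * k⁻¹ := by rw [mul_assoc k⁻¹, ← (hkZ z hz).eq, inv_mul_cancel_left]
        _ = l * z * l⁻¹ := by rw [(hkZ _ hlz).eq, mul_inv_cancel_right]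
    obtain ⟨k', -, hu⟩ := Ksub_regular hS h2 hz hz1 hlz
      (fun e => hz1 (by
        rw [mul_inv_eq_one] at e
        exact mul_eq_left.1 e))
    have := (hu ⟨c, hcK⟩ e1).trans (hu ⟨l, hl⟩ rfl).symm
    exact mul_inv_eq_iff_eq_mul.1 (congrArg Subtype.val this)
  have hKF : ∀ l ∈ Ksub G a t, ∀ x ∈ F, l * x * l⁻¹ ∈ F := fun l hl x hx => by
    have hla := (mem_twoPt.1 (Ksub_le hS h2 hl)).1
    refine ⟨Q_conj hS hla hx.1, ?_⟩
    rw [show (l * x * l⁻¹)⁻¹ * (k * (l * x * l⁻¹) * k⁻¹) =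
      l * (x⁻¹ * l⁻¹ * ((k * l) * x * (k * l)⁻¹) * l) * l⁻¹ by group, hkK l hl,
      show x⁻¹ * l⁻¹ * (l * k * x * (l * k)⁻¹) * l = x⁻¹ * (k * x * k⁻¹) by group]
    exact Zsub_conj hS h2 hla hx.2
  -- counting
  have count : ∀ P : Subgroup G, P ≤ Q → (∀ x ∈ P, k * x * k⁻¹ ∈ P) →
      Nat.card P ≡ Nat.card ↥(P ⊓ F) [MOD p] := by
    intro P hPQ hP
    have hinj : Function.Injective fun x : P => (⟨k * x * k⁻¹, hP x x.2⟩ : P) := fun x y e =>
      Subtype.ext (mul_left_cancel (mul_right_cancel (congrArg Subtype.val e :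
        k * (x : G) * k⁻¹ = k * y * k⁻¹)))
    let σ : Equiv.Perm P := Equiv.ofBijective _ (Finite.injective_iff_bijective.1 hinj)
    have hpow : ∀ (i : ℕ) (x : P), (((σ ^ i) x : P) : G) = k ^ i * x * (k ^ i)⁻¹ := by
      intro i
      induction i with
      | zero => intro x; simp
      | succ i ih =>
        intro x
        rw [pow_succ' σ, Equiv.Perm.mul_apply, pow_succ' k]
        show k * (((σ ^ i) x : P) : G) * k⁻¹ = _
        rw [ih]; group
    let Y := {x : P // (x : G) ∉ F}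
    have hY : ∀ x : P, (x : G) ∈ F ↔ ((σ x : P) : G) ∈ F := by
      intro x
      have hxQ := hPQ x.2
      show (x : G) ∈ F ↔ k * x * k⁻¹ ∈ F
      refine ⟨fun hx => ⟨Q_conj hS hka hxQ, ?_⟩, fun hx => ⟨hxQ, ?_⟩⟩
      · rw [show (k * (x : G) * k⁻¹)⁻¹ * (k * (k * x * k⁻¹) * k⁻¹) =
          k * ((x : G)⁻¹ * (k * x * k⁻¹)) * k⁻¹ by group]
        exact Zsub_conj hS h2 hka hx.2
      · have := hx.2
        rw [show (k * (x : G) * k⁻¹)⁻¹ * (k * (k * x * k⁻¹) * k⁻¹) =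
          k * ((x : G)⁻¹ * (k * x * k⁻¹)) * k⁻¹ by group] at this
        have := Zsub_conj hS h2 (g := k⁻¹) (inv_smul_eq_iff.2 hka.symm) this
        simpa [mul_assoc] using this
    haveI := Fintype.ofFinite Y
    let τ : Equiv.Perm Y := σ.subtypePerm fun x => not_congr (hY x).symm
    have hτ : τ ^ p ^ 1 = 1 := by
      rw [pow_one, Equiv.Perm.subtypePerm_pow]
      refine Equiv.ext fun x => Subtype.ext (Subtype.ext ?_)
      show (((σ ^ p) (x : P) : P) : G) = _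
      rw [hpow, ← hko, pow_orderOf_eq_one, one_mul, inv_one, mul_one]
      rfl
    have hmod := Equiv.Perm.card_compl_support_modEq (α := Y) hτ
    have hnofix : ∀ y : Y, τ y ≠ y := by
      intro y e
      refine y.2 ⟨hPQ y.1.2, ?_⟩
      have e' : k * ((y : P) : G) * k⁻¹ = ((y : P) : G) := congrArg (fun z : Y => ((z : P) : G)) e
      rw [e', inv_mul_cancel]
      exact one_mem _
    have hY0 : Fintype.card Y ≡ 0 [MOD p] := by
      have : τ.supportᶜ = ∅ := by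
        ext y
        simp [Equiv.Perm.mem_support, hnofix y]
      rw [this, Finset.card_empty] at hmod
      exact hmod.symm
    have hsplit : Nat.card ↥(P ⊓ F) + Fintype.card Y = Nat.card P := by
      rw [← Nat.card_eq_fintype_card (α := Y),
        show Nat.card ↥(P ⊓ F) = Nat.card {x : P // (x : G) ∈ F} from Nat.card_congr
          ⟨fun z => ⟨⟨z, z.2.1⟩, z.2.2⟩, fun x => ⟨x.1.1, x.1.2, x.2⟩, fun z => rfl, fun x => rfl⟩,
        ← Nat.card_sum, Nat.card_congr (Equiv.sumCompl fun x : P => (x : G) ∈ F)]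
    rw [← hsplit]
    exact Nat.ModEq.add_left _ hY0
  have hqp : ∀ i : ℕ, q ^ (2 * i) ≡ 1 [MOD p] := by
    intro i
    obtain ⟨r, hr⟩ := hpq
    obtain ⟨q', hq'⟩ : ∃ q', q = q' + 1 := ⟨q - 1, by omega⟩
    have h : q ^ 2 ≡ 1 [MOD p] := by
      refine ((Nat.modEq_iff_dvd' (Nat.one_le_pow _ _ (by omega))).2 ⟨r * q', ?_⟩).symm
      rw [← mul_assoc, ← hr, hq']
      simp [pow_two]
      ring_nf
      omega
    rw [pow_mul]
    simpa using h.pow i
  have hq_ne : ¬ q ≡ 1 [MOD p] := by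
    intro h
    have h1 : q + 1 ≡ 1 + 1 [MOD p] := h.add_right 1
    have h2' : p ∣ 2 := (h1.symm.trans (Nat.modEq_zero_iff_dvd.2 hpq)) |> Nat.modEq_zero_iff_dvd.1
    exact hp2 ((Nat.prime_dvd_prime_iff_eq hp Nat.prime_two).1 h2')
  -- `C` is fixed modulo `Zsub`
  have hZlt : ∀ P : Subgroup G, Zsub G a ≤ P → P ≠ Zsub G a → q < Nat.card P := fun P hP hne =>
    lt_of_le_of_ne (Nat.le_of_dvd Nat.card_pos (Subgroup.card_dvd_of_le hP))
      fun e => hne (Subgroup.eq_of_le_of_card_ge hP e.ge).symm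
  have hCF : C ≤ F := by
    have hmod := count C hCQ fun x hx => hC k (mem_stabilizer_iff.2 hka) x hx
    rw [hjC] at hmod
    have hne : C ⊓ F ≠ Zsub G a := fun e => hq_ne (by
      rw [e] at hmod
      exact hmod.symm.trans (by simpa using hqp 1))
    obtain ⟨i, hi, hiC⟩ := card_of_between hS h2 (le_inf hZC hZF) (inf_le_left.trans hCQ)
      fun l hl x hx => ⟨hKC hC l hl x hx.1, hKF l hl x hx.2⟩
    have hlt := hZlt _ (le_inf hZC hZF) hne
    rw [hiC] at hlt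
    have hi2 : 2 ≤ i := by
      by_contra hlt'
      rw [show i = 1 by omega, pow_one] at hlt
      exact lt_irrefl _ hlt
    refine inf_eq_left.1 (Subgroup.eq_of_le_of_card_ge inf_le_left ?_)
    rw [hjC, hiC]
    exact Nat.pow_le_pow_right (by omega) hi2
  -- hence so is `Q`
  have hFQeq : F = Q := by
    obtain ⟨i, hi, hiF⟩ := card_of_between hS h2 hZF hFQ hKF
    have hmod := count Q le_rfl fun x hx => Q_conj hS hka hx
    rw [inf_eq_right.2 hFQ, hiF, hc, show q ^ 3 = q ^ (2 * 1) * q by ring] at hmod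
    have hi2 : 2 ≤ i := by
      have := Nat.le_of_dvd Nat.card_pos (Subgroup.card_dvd_of_le hCF)
      rw [hjC, hiF] at this
      exact (Nat.pow_le_pow_iff_right hq1).1 this
    refine Subgroup.eq_of_le_of_card_ge hFQ ?_
    rw [hc, hiF]
    refine Nat.pow_le_pow_right (by omega) ?_
    by_contra hlt
    rw [show i = 2 * 1 by omega] at hmod
    exact hq_ne (by simpa using ((Nat.ModEq.mul_right q (hqp 1)).symm.trans hmod).trans (hqp 1))
  have h1 := eq_one_of_trivial_mod hS h2 hZQ hk fun x hx => (hFQeq.symm ▸ hx : x ∈ F).2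
  rw [h1, orderOf_one] at hko
  exact hp.ne_one hko.symm

end CfsgLib.StrongClosed75
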