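import Cfsg.Agent.Lib.StrongClosed75.Basic
import Cfsg.Agent.Lib.StrongClosed75.RankOneFacts
import Cfsg.Agent.Lib.StrongCrit.SecOdd
import Cfsg.Agent.Lib.StrongCrit.Closed
import Cfsg.Agent.Lib.BenderQ.Bender
import Cfsg.Agent.Lib.BenderQ.Classify

/-!
A strongly closed 2-subgroup with a four group whose element centralizers lie in a proper subgroup:
it is the Sylow subgroup of its normal closure or generated by the involutions there.
-/

set_option autoImplicit false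
set_option linter.style.haveILetI false

namespace CfsgLib.StrongClosed75

open CfsgLib.Involutions CfsgLib.StrongCrit CfsgLib.BenderTrans MulAction
open CfsgLib.RankOneInvol CfsgLib.RankOneTwo
open scoped commutatorElement

universe u

variable {G : Type u} [Group G] [Finite G] {T : Sylow 2 G} {S H : Subgroup G} (h : Cfg T S H)
include h

set_option maxHeartbeats 1600000 in
/-- The conclusion for a strongly closed subgroup with a four group. -/
theorem Cfg.rankTwo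
    (hfour : ∃ s ∈ S, ∃ s' ∈ S, orderOf s = 2 ∧ orderOf s' = 2 ∧ s ≠ s' ∧ Commute s s') :
    Cfsg.IsStronglyEmbedded
        ((H ⊓ Subgroup.normalClosure (S : Set G)).subgroupOf (Subgroup.normalClosure (S : Set G))) ∧
      (S = (T : Subgroup G) ⊓ Subgroup.normalClosure (S : Set G) ∨
        S = Cfsg.omegaOne 2 ((T : Subgroup G) ⊓ Subgroup.normalClosure (S : Set G))) := by
  classical
  haveI : Fact (Nat.Prime 2) := ⟨Nat.prime_two⟩
  have hd := h.data
  have hTH : (T : Subgroup G) ≤ H := hd.sylow_le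
  have hsm := @StronglyClosed.smul_eq_iff G _ H
  set Z := StronglyClosed.mem S with hZdef
  have hset : Setting (G ⧸ H) Z := hd.setting h.top
  set L := Subgroup.closure Z with hLdef
  have hmemS : ∀ {s : G}, s ∈ S → orderOf s = 2 → s ∈ Z := fun hs h2 => ⟨1, _, hs, h2, by group⟩
  have hbad : ∀ w ∈ L, ¬ IsBad (G ⧸ H) w := fun w hw hb =>
    notMem_closure_of_mul criterionMain G (G ⧸ H) Z hset
      (fun s hs t ht hst hne => hd.mul_mem_mem hs ht hst hne) w hb hw
  haveI hLn : L.Normal := ⟨fun x hx g => by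
    have hle : L.map (MulAut.conj g).toMonoidHom ≤ L := by
      rw [hLdef, MonoidHom.map_closure, Subgroup.closure_le]
      rintro _ ⟨y, hy, rfl⟩
      exact Subgroup.subset_closure (StronglyClosed.Data.mem_conj g hy)
    exact hle (Subgroup.mem_map_of_mem _ hx)⟩
  set c : G ⧸ H := ((1 : G) : G ⧸ H) with hc
  have hfixc : ∀ {g : G}, g • c = c ↔ g ∈ H := fun {g} => base_smul_eq_iff g
  -- elements of `S` fix one point
  have hSfix : ∀ s ∈ S, s ≠ 1 → ∀ x : G ⧸ H, s • x = x → x = c := by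
    intro s hs hs1 x hx
    induction x using QuotientGroup.induction_on with | H a => ?_
    have h1 : a⁻¹ ∈ H := h.mem_of_conj_mem hs hs1 (by simpa using (hsm s a).1 hx)
    exact QuotientGroup.eq.2 (by simpa using h1)
  -- the image
  set π : G →* Equiv.Perm (G ⧸ H) := MulAction.toPermHom G (G ⧸ H) with hπ
  have hπs : ∀ (g : G) (x : G ⧸ H), π g • x = g • x := fun g x => rfl
  set M := L.map π with hM
  let ρ : L →* M := π.subgroupMap L
  have hρ : ∀ (x : L) (p : G ⧸ H), ρ x • p = (x : G) • p := fun x p => rfl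
  have hρsurj : Function.Surjective ρ := π.subgroupMap_surjective L
  set N := L ⊓ π.ker with hN
  have hNodd : Odd (Nat.card N) := by
    rw [← Nat.not_even_iff_odd]
    intro hev
    obtain ⟨⟨w, hw⟩, hw2⟩ := exists_prime_orderOf_dvd_card' 2 (even_iff_two_dvd.1 hev)
    rw [← Subgroup.orderOf_coe] at hw2
    have hfixall : ∀ x : G ⧸ H, w • x = x := fun x => by
      rw [← hπs, MonoidHom.mem_ker.1 hw.2]; rfl
    obtain ⟨y, hy⟩ := hset.nontriv c
    exact hbad w hw.1 ⟨hw2, c, y, hy.symm, hfixall c, hfixall y⟩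
  have hρker : ∀ {x y : L}, ρ x = ρ y → (x : G)⁻¹ * y ∈ N := fun {x y} e =>
    ⟨L.mul_mem (L.inv_mem x.2) y.2, MonoidHom.mem_ker.2 (by
      rw [map_mul, map_inv, show π (x : G) = π y from congrArg Subtype.val e, inv_mul_cancel])⟩
  have hlift : ∀ m : M, orderOf m = 2 → ∃ x : L, orderOf (x : G) = 2 ∧ ρ x = m := by
    intro m hm
    obtain ⟨x, rfl⟩ := hρsurj m
    have hxx : (x : G) * x ∈ N := by
      have e : ρ 1 = ρ (x * x) := by
        rw [map_one, map_mul, ← pow_two, ← hm, pow_orderOf_eq_one]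
      simpa using hρker e
    set j := Nat.card N
    have hpow : ρ (x ^ j) = ρ x := by
      obtain ⟨k, hk⟩ := hNodd
      rw [map_pow, hk, pow_succ, pow_mul, show (2 : ℕ) = orderOf (ρ x) from hm.symm,
        pow_orderOf_eq_one, one_pow, one_mul]
    refine ⟨x ^ j, ?_, hpow⟩
    refine orderOf_eq_prime ?_ fun e => ?_
    · rw [SubmonoidClass.coe_pow, ← pow_mul, mul_comm, pow_mul, pow_two]
      exact congrArg Subtype.val (pow_card_eq_one' (x := (⟨_, hxx⟩ : N)))
    · rw [show x ^ j = 1 from Subtype.ext e, map_one] at hpow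
      rw [← hpow, orderOf_one] at hm
      omega
  have hodd : Odd (Nat.card (G ⧸ H)) := by
    rw [← Subgroup.index_eq_card]
    exact (Nat.not_even_iff_odd.1 fun he => T.not_dvd_index (even_iff_two_dvd.1 he)).of_dvd_nat
      (Subgroup.index_dvd_of_le hTH)
  have hinvfix : ∀ x : G, orderOf x = 2 → ∃ p : G ⧸ H, x • p = p := by
    intro x hx
    obtain ⟨p, hp⟩ := (IsPGroup.nonempty_fixed_point_of_prime_not_dvd_card (p := 2)
      (G := Subgroup.zpowers x) (isPGroup_zpowers hx) (G ⧸ H)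
      (by rw [← even_iff_two_dvd, Nat.not_even_iff_odd]; exact hodd))
    exact ⟨p, hp ⟨x, Subgroup.mem_zpowers x⟩⟩
  -- the action of `M`
  have hone : OneFix M (G ⧸ H) := by
    refine ⟨fun x y => ?_, fun x => hset.nontriv x, ?_, fun m hm => ?_, fun m hm x y hx hy => ?_⟩
    · rcases eq_or_ne x y with rfl | hne
      · exact ⟨1, one_smul M x⟩
      obtain ⟨s, hs, hsx, -⟩ := hset.central x ⊥ IsPGroup.of_bot bot_le
      obtain ⟨t, ht, hty, -⟩ := hset.central y ⊥ IsPGroup.of_bot bot_le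
      obtain ⟨g, hg, -, hgxy⟩ := hset.exists_conj_of_ne ⟨hs, hsx⟩ ⟨ht, hty⟩ hne
      have hgL : g ∈ L := (Subgroup.closure_le L).2 (Set.insert_subset (Subgroup.subset_closure hs)
        (Set.singleton_subset_iff.2 (Subgroup.subset_closure ht))) hg
      exact ⟨ρ ⟨g, hgL⟩, hgxy⟩
    · obtain ⟨s, hs, -, -, hs2, -⟩ := hfour
      refine ⟨ρ ⟨s, Subgroup.subset_closure (hmemS hs hs2)⟩, orderOf_eq_prime ?_ fun e => ?_⟩
      · rw [← map_pow, show (⟨s, _⟩ : L) ^ 2 = 1 from Subtype.ext (by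
          show s ^ 2 = 1
          rw [← hs2, pow_orderOf_eq_one]), map_one]
      · obtain ⟨y, hy⟩ := hset.nontriv c
        refine hy (hSfix s hs (ne_one_of_invol hs2) y ?_)
        rw [← hρ ⟨s, Subgroup.subset_closure (hmemS hs hs2)⟩, e, one_smul]
    · obtain ⟨x, hx, rfl⟩ := hlift m hm
      obtain ⟨p, hp⟩ := hinvfix x hx
      exact ⟨p, hp⟩
    · obtain ⟨w, hw, rfl⟩ := hlift m hm
      by_contra hne
      exact hbad w w.2 ⟨hw, x, y, hne, hx, hy⟩
  have hfaith : ∀ m : M, (∀ x : G ⧸ H, m • x = x) → m = 1 := fun m hm =>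
    Subtype.ext (Equiv.ext hm)
  haveI hfs : FaithfulSMul M (G ⧸ H) := ⟨fun {m m'} e => Subtype.ext (Equiv.ext e)⟩
  -- the kernel
  have hhasfour : HasFour M ∧ ∃ x y : M, x ≠ 1 ∧ y ≠ 1 ∧ x ≠ y ∧ x * x = 1 ∧ y * y = 1 ∧
      x * y = y * x := by
    obtain ⟨s, hs, s', hs', hs2, hs2', hne, hcs⟩ := hfour
    set a : L := ⟨s, Subgroup.subset_closure (hmemS hs hs2)⟩
    set b : L := ⟨s', Subgroup.subset_closure (hmemS hs' hs2')⟩
    have hninj : ∀ u v : L, (u : G) * u = 1 → (v : G) * v = 1 → Commute (u : G) v → ρ u = ρ v →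
        u = v := by
      intro u v hu hv hcuv e
      have h1 := hρker e
      have h2 : ((u : G)⁻¹ * v) ^ 2 = 1 := by
        rw [(hcuv.inv_left).mul_pow, inv_pow, pow_two, pow_two, hu, hv, inv_one, one_mul]
      have h3 : orderOf ((u : G)⁻¹ * v) = 1 := by
        have ho : Odd (orderOf ((u : G)⁻¹ * v)) :=
          hNodd.of_dvd_nat (Subgroup.orderOf_dvd_natCard N h1)
        rcases (Nat.dvd_prime Nat.prime_two).1 (orderOf_dvd_of_pow_eq_one h2) with h4 | h4
        · exact h4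
        · rw [h4] at ho; exact absurd ho (by decide)
      exact Subtype.ext (inv_mul_eq_one.1 (orderOf_eq_one_iff.1 h3))
    have hss : s * s = 1 := mul_self_eq_one hs2
    have hss' : s' * s' = 1 := mul_self_eq_one hs2'
    have ha : ρ a ≠ 1 := fun e => ne_one_of_invol hs2 (congrArg Subtype.val
      (hninj a 1 hss (by simp) (Commute.one_right _) (e.trans (map_one _).symm)))
    have hb : ρ b ≠ 1 := fun e => ne_one_of_invol hs2' (congrArg Subtype.val
      (hninj b 1 hss' (by simp) (Commute.one_right _) (e.trans (map_one _).symm)))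
    have hab : ρ a ≠ ρ b := fun e => hne (congrArg Subtype.val (hninj a b hss hss' hcs e))
    have haa : ρ a * ρ a = 1 := by
      rw [← map_mul, show a * a = 1 from Subtype.ext hss, map_one]
    have hbb : ρ b * ρ b = 1 := by
      rw [← map_mul, show b * b = 1 from Subtype.ext hss', map_one]
    have hcm : Commute (ρ a) (ρ b) :=
      (show Commute a b from Subtype.ext hcs.eq).map ρ
    exact ⟨⟨ρ a, ρ b, orderOf_eq_two_iff_mul.2 ⟨ha, haa⟩, orderOf_eq_two_iff_mul.2 ⟨hb, hbb⟩,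
      hab, hcm⟩, ρ a, ρ b, ha, hb, hab, haa, hbb, hcm.eq⟩
  obtain ⟨Q, hQ⟩ := BenderQ.isKernelAt_of_hasKernelAt
    (BenderQ.benderKernel M (G ⧸ H) hone hfaith hhasfour.1 c)
  obtain ⟨t, hS⟩ := BenderQ.exists_rankOneSetup hone hQ
  have h2 := hhasfour.2
  -- `T ⊓ L`
  set TL := (T : Subgroup G) ⊓ L with hTL
  have hTLc : ∀ x ∈ TL, x • c = c := fun x hx => hfixc.2 (hTH hx.1)
  have hinQ : ∀ x : L, (x : G) ∈ (T : Subgroup G) → ρ x ∈ Q := by
    intro x hx
    have hxc : ρ x • c = c := (hρ x c).trans (hfixc.2 (hTH hx))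
    obtain ⟨y, hy⟩ := hone.nontriv c
    obtain ⟨q, hq, hqy⟩ := hQ.trans (ρ x • y) y (fun e => hy (smul_left_cancel (ρ x) (e.trans hxc.symm)))
      hy
    have hd2 : q * ρ x ∈ BenderTrans.two M c y := mem_two_iff.2
      ⟨by rw [mul_smul, hxc]; exact mem_stabilizer_iff.1 (hQ.le hq), by rw [mul_smul]; exact hqy⟩
    -- `Q` is normalised, so `q * ρ x` is a 2-element
    have hxn : Subgroup.zpowers (ρ x) ≤ Subgroup.normalizer (Q : Set M) := by
      rw [Subgroup.zpowers_le]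
      exact CfsgLib.Coprime.mem_normalizer_of_forall_conj fun z hz =>
        hQ.conj _ (mem_stabilizer_iff.2 hxc) z hz
    have hx2 : IsPGroup 2 (Subgroup.zpowers (ρ x)) := by
      have h1 : IsPGroup 2 (Subgroup.zpowers x) :=
        (T.2.comap_subtype (K := L)).to_le (Subgroup.zpowers_le.2 hx)
      have h3 := h1.map ρ
      rwa [MonoidHom.map_zpowers] at h3
    have h3 := hQ.isTwo.to_sup_of_normal_left' hx2 hxn
    obtain ⟨k, hk⟩ := IsPGroup.iff_orderOf.1 h3
      ⟨q * ρ x, mul_mem (Subgroup.mem_sup_left hq) (Subgroup.mem_sup_right (Subgroup.mem_zpowers _))⟩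
    rw [← Subgroup.orderOf_coe] at hk
    have ho : Odd (orderOf (q * ρ x)) :=
      (hone.odd_two hy.symm).of_dvd_nat (Subgroup.orderOf_dvd_natCard _ hd2)
    rw [hk] at ho
    rcases Nat.eq_zero_or_pos k with rfl | hk0
    · rw [pow_zero, orderOf_eq_one_iff, mul_eq_one_iff_eq_inv] at hk
      rw [show ρ x = q⁻¹ by rw [hk, inv_inv]]
      exact Q.inv_mem hq
    · exact absurd ho (by simp [Nat.odd_pow_iff hk0.ne'])
  have hinjT : ∀ x y : L, (x : G) ∈ (T : Subgroup G) → (y : G) ∈ (T : Subgroup G) → ρ x = ρ y →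
      x = y := by
    intro x y hx hy e
    have h1 := hρker e
    obtain ⟨k, hk⟩ := IsPGroup.iff_orderOf.1 T.2 ⟨_, mul_mem (inv_mem hx) hy⟩
    rw [← Subgroup.orderOf_coe] at hk
    have ho : Odd (orderOf ((x : G)⁻¹ * y)) := hNodd.of_dvd_nat (Subgroup.orderOf_dvd_natCard N h1)
    rw [hk] at ho
    rcases Nat.eq_zero_or_pos k with rfl | hk0
    · rw [pow_zero, orderOf_eq_one_iff, inv_mul_eq_one] at hk
      exact Subtype.ext hk
    · exact absurd ho (by simp [Nat.odd_pow_iff hk0.ne'])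
  set TL' := (T : Subgroup G).subgroupOf L
  have hTLQ : TL'.map ρ = Q := by
    refine Subgroup.eq_of_le_of_card_ge ?_ ?_
    · rintro _ ⟨x, hx, rfl⟩
      exact hinQ x hx
    rw [Nat.card_congr (show ↥(TL'.map ρ) ≃ ↥TL' from (Equiv.ofBijective
      (fun x : TL' => (⟨ρ x, x, x.2, rfl⟩ : TL'.map ρ)) ⟨fun a b e => Subtype.ext
        (hinjT a b a.2 b.2 (congrArg Subtype.val e)), fun ⟨m, x, hx, e⟩ =>
        ⟨⟨x, hx⟩, Subtype.ext e⟩⟩).symm)]
    obtain ⟨k, hk⟩ := hQ.isTwo.exists_card_eq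
    obtain ⟨P⟩ := (inferInstance : Nonempty (Sylow 2 L))
    have hkP : 2 ^ k ∣ Nat.card P := P.pow_dvd_card_of_pow_dvd_card ((hk ▸
      Subgroup.card_subgroup_dvd_card Q).trans (Subgroup.card_dvd_of_surjective ρ hρsurj))
    obtain ⟨P', hP'⟩ := (P.2.map L.subtype).exists_le_sylow
    obtain ⟨g, hg⟩ := MulAction.exists_smul_eq G P' T
    rw [hk]
    refine le_trans (Nat.le_of_dvd Nat.card_pos hkP) ?_
    refine Nat.card_le_card_of_injective (fun p : P =>
      (⟨⟨g * ((p : L) : G) * g⁻¹, hLn.conj_mem _ (p : L).2 g⟩, by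
        show g * ((p : L) : G) * g⁻¹ ∈ (T : Subgroup G)
        rw [← hg, Sylow.coe_subgroup_smul]
        exact Subgroup.smul_mem_pointwise_smul _ (MulAut.conj g) _
          (hP' (Subgroup.mem_map_of_mem _ p.2))⟩ : TL')) fun a b e => ?_
    have e' : g * ((a : L) : G) * g⁻¹ = g * ((b : L) : G) * g⁻¹ :=
      congrArg (fun z : TL' => ((z : L) : G)) e
    exact Subtype.ext (Subtype.ext (mul_left_cancel (mul_right_cancel e')))
  -- involutions of `T ⊓ L`
  have hinvS : ∀ u ∈ L, u ∈ (T : Subgroup G) → orderOf u = 2 → u ∈ S := by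
    intro u huL huT hu
    obtain ⟨s, hs, hsy, -⟩ : ∃ s ∈ Z, s • (c : G ⧸ H) ≠ c ∧ True := by
      obtain ⟨y, hy⟩ := hset.nontriv c
      obtain ⟨s, hs, hsy, -⟩ := hset.central y ⊥ IsPGroup.of_bot bot_le
      exact ⟨s, hs, fun e => hy (hset.unique s hs _ _ hsy e), trivial⟩
    have huc : u • c = c := hfixc.2 (hTH huT)
    have hodd2 : Odd (orderOf (u * s)) := by
      rw [← Nat.not_even_iff_odd]
      intro he
      have hs2 := hset.invol s hs
      obtain ⟨he2, heu, hes⟩ := central_involution hu hs2 he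
      set e := (u * s) ^ (orderOf (u * s) / 2)
      have heL : e ∈ L := pow_mem (L.mul_mem huL (Subgroup.subset_closure hs)) _
      obtain ⟨p, hp⟩ := hset.exists_fix s hs
      have hep : e • p = p := hset.unique s hs _ _ (by
        rw [smul_smul, ← hes.eq, mul_smul, hp]) hp
      have hec : e • c = c := by
        by_contra hne
        exact hbad u huL ⟨hu, e • c, c, hne, by rw [smul_smul, ← heu.eq, mul_smul, huc], huc⟩
      exact hbad e heL ⟨he2, p, c, fun e' => hsy (e' ▸ hp), hep, hec⟩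
    obtain ⟨g, -, hg⟩ := conj_of_odd_order hu (hset.invol s hs) hodd2
    have huZ : u ∈ Z := by
      have : g⁻¹ * s * g⁻¹⁻¹ ∈ Z := StronglyClosed.Data.mem_conj g⁻¹ hs
      rwa [← hg, show g⁻¹ * (g * u * g⁻¹) * g⁻¹⁻¹ = u by group] at this
    obtain ⟨k, w, hw, -, e⟩ := huZ
    exact e ▸ h.closed.2 w hw k (e.symm ▸ huT)
  set S1 := (S.subgroupOf L).map ρ with hS1
  have hS1Q : S1 ≤ Q := by
    rintro _ ⟨x, hx, rfl⟩
    exact hinQ x (h.closed.1 hx)
  have hQlift : ∀ q ∈ Q, ∃ x : L, (x : G) ∈ (T : Subgroup G) ∧ ρ x = q := fun q hq => by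
    rw [← hTLQ] at hq
    obtain ⟨x, hx, e⟩ := hq
    exact ⟨x, hx, e⟩
  have hS1mem : ∀ x : L, (x : G) ∈ (T : Subgroup G) → ρ x ∈ S1 → (x : G) ∈ S := by
    rintro x hx ⟨y, hy, e⟩
    rw [← hinjT y x (h.closed.1 hy) hx e]
    exact hy
  have hp2 : ∀ {x : G}, x ∈ (T : Subgroup G) → IsPGroup 2 (Subgroup.zpowers x) := fun hx =>
    T.2.to_le (Subgroup.zpowers_le.2 hx)
  haveI : N.Normal := Subgroup.normal_inf_normal _ _
  -- the closure property
  have hclosed : ∀ x ∈ S, ∀ g : G, ∀ z ∈ (T : Subgroup G), z⁻¹ * (g * x * g⁻¹) ∈ N → z ∈ S := by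
    intro x hx g z hz hzN
    have hx2 : IsPGroup 2 (Subgroup.zpowers (g * x * g⁻¹)) := by
      have h1 := (hp2 (h.closed.1 hx)).map (MulAut.conj g).toMonoidHom
      rwa [MonoidHom.map_zpowers] at h1
    obtain ⟨n, -, hn⟩ := exists_conj_eq hNodd hx2 (hp2 hz) hzN
    have := h.closed.2 x hx (n * g) (by
      rw [show n * g * x * (n * g)⁻¹ = n * (g * x * g⁻¹) * n⁻¹ by group, hn]; exact hz)
    rwa [show n * g * x * (n * g)⁻¹ = n * (g * x * g⁻¹) * n⁻¹ by group, hn] at this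
  have hS1conj : ∀ m ∈ stabilizer M c, ∀ q ∈ S1, m * q * m⁻¹ ∈ S1 := by
    rintro m hm _ ⟨x, hx, rfl⟩
    obtain ⟨k, rfl⟩ := hρsurj m
    obtain ⟨z, hz, hzk⟩ := hQlift _ (hQ.conj _ hm _ (hinQ x (h.closed.1 hx)))
    have hzk' : ρ z = ρ (k * x * k⁻¹) := by rw [map_mul, map_mul, map_inv]; exact hzk
    refine ⟨z, hclosed x hx k z hz ?_, hzk⟩
    exact hρker hzk'
  have hZS1 : Zsub M c ≤ S1 := by
    rw [Zsub, Subgroup.closure_le]
    rintro q hq
    obtain ⟨hqc, hq1, hqq⟩ := mem_invols.1 hq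
    have hqQ : q ∈ Q := inv_mem_Q_of_fixed hS hqq hqc
    obtain ⟨x, hx, rfl⟩ := hQlift q hqQ
    have hxx : x * x = 1 := hinjT _ _ (mul_mem hx hx) (one_mem _) (by rw [map_mul, hqq, map_one])
    have hx2 : orderOf (x : G) = 2 := orderOf_eq_two_iff_mul.2
      ⟨fun e => hq1 (by rw [show x = 1 from Subtype.ext e, map_one]), congrArg Subtype.val hxx⟩
    exact ⟨x, hinvS x x.2 hx hx2, rfl⟩
  have hr0 : ∀ s ∈ S, ∀ l : L, (l : G) ∈ S → (s * l) • (t • c) = t • c → s ∈ L := by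
    intro s hs l hl hfix
    by_contra hsL
    have hne : s * l ≠ 1 := fun e => hsL (by
      rw [mul_eq_one_iff_eq_inv] at e; rw [e]; exact L.inv_mem l.2)
    exact ta_ne hS (hSfix _ (S.mul_mem hs hl) hne _ hfix)
  have hlifty : ∀ s ∈ (T : Subgroup G), ∃ l : L, (l : G) ∈ (T : Subgroup G) ∧
      (s * (l : G)) • (t • c) = t • c := by
    intro s hs
    have hne : s⁻¹ • (t • c) ≠ c := fun e => ta_ne hS (by
      rw [inv_smul_eq_iff] at e
      rw [e, hfixc.2 (hTH hs)])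
    obtain ⟨q, hq, hqy⟩ := Q_trans hS hne
    obtain ⟨l, hl, rfl⟩ := hQlift q hq
    exact ⟨l, hl, by rw [mul_smul, ← hρ l, hqy, smul_inv_smul]⟩
  -- `S ≤ L`
  have hSL : S ≤ L ∧ (S1 = Zsub M c ∨ S1 = Q) := by
    refine ⟨fun s hs => ?_, eq_or_eq_of_between hS h2 hZS1 hS1Q hS1conj⟩
    obtain ⟨l, hl, hfix⟩ := hlifty s (h.closed.1 hs)
    by_cases hZQ : Zsub M c = Q
    · refine hr0 s hs l (hS1mem l hl ?_) hfix
      exact hZS1 (hZQ.symm ▸ hinQ l hl)
    rcases eq_or_eq_of_between hS h2 hZS1 hS1Q hS1conj with hZ | hQ'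
    swap
    · exact hr0 s hs l (hS1mem l hl (hQ'.symm ▸ hinQ l hl)) hfix
    refine hr0 s hs l (hS1mem l hl ?_) hfix
    -- conjugation by `r = s * l` on `M`
    set r := s * (l : G) with hr
    have hrT : r ∈ (T : Subgroup G) := mul_mem (h.closed.1 hs) hl
    have hrc : r • c = c := hfixc.2 (hTH hrT)
    let cr : L → L := fun x => ⟨r * x * r⁻¹, hLn.conj_mem x x.2 r⟩
    let tr : L → L := fun x => ⟨r⁻¹ * x * r, by simpa using hLn.conj_mem x x.2 r⁻¹⟩
    have hsT : ∀ {x : L}, (x : G) ∈ (T : Subgroup G) → ∃ w : L, (w : G) ∈ S ∧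
        (s * x * s⁻¹ : G) = x * w := by
      intro x hx
      have hw : (x : G)⁻¹ * s * x * s⁻¹ ∈ S :=
        S.mul_mem (h.closed.2 s hs (x : G)⁻¹ (by
          simpa using mul_mem (mul_mem (inv_mem hx) (h.closed.1 hs)) hx) |> fun h' => by simpa using h')
          (S.inv_mem hs)
      have hwL : (x : G)⁻¹ * s * x * s⁻¹ ∈ L := by
        rw [mul_assoc, mul_assoc, ← mul_assoc s]
        exact L.mul_mem (L.inv_mem x.2) (hLn.conj_mem x x.2 s)
      exact ⟨⟨_, hwL⟩, hw, by group⟩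
    -- `r` is trivial on `Q` modulo `Zsub`
    have htriv : ∀ x : L, (x : G) ∈ (T : Subgroup G) →
        ∃ z ∈ Zsub M c, ρ (cr x) = ρ x * z := by
      intro x hx
      obtain ⟨w, hw, hsw⟩ := hsT hx
      obtain ⟨w', hw', hsw'⟩ := hsT (x := l) hl
      refine ⟨(ρ x)⁻¹ * ρ (cr x), ?_, by group⟩
      have h1 : ρ (cr x) = ρ (⟨s * ((l * x * l⁻¹ : L) : G) * s⁻¹,
          hLn.conj_mem _ (l * x * l⁻¹).2 s⟩) := by
        congr 1
        refine Subtype.ext ?_
        show s * (l : G) * x * (s * (l : G))⁻¹ = s * ((l : G) * x * (l : G)⁻¹) * s⁻¹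
        group
      obtain ⟨v, hv, hsv⟩ := hsT (x := l * x * l⁻¹) (mul_mem (mul_mem hl hx) (inv_mem hl))
      have h3 : ρ (cr x) = ρ l * ρ x * (ρ l)⁻¹ * ρ v := by
        rw [h1, ← map_inv, ← map_mul, ← map_mul, ← map_mul]
        exact congrArg ρ (Subtype.ext hsv)
      rw [h3, show (ρ x)⁻¹ * (ρ l * ρ x * (ρ l)⁻¹ * ρ v) = ⁅(ρ x)⁻¹, ρ l⁆ * ρ v by
        rw [commutatorElement_def]; group]
      exact mul_mem (commutator_mem_Zsub hS h2 (Q.inv_mem (hinQ x hx)) (hinQ l hl))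
        (hZ ▸ ⟨v, hv, rfl⟩)
    -- `r` centralises `Ksub`
    have hcomm : ∀ k : L, ρ k ∈ Ksub M c t → ρ (cr k) = ρ k := by
      intro k hk
      have hk2 := mem_twoPt.1 (RankOneTwo.Ksub_le hS h2 hk)
      have hrk : ∀ p : G ⧸ H, r • p = p → ρ k • p = p → ρ (cr k) • p = p := by
        intro p hrp hkp
        show (r * (k : G) * r⁻¹) • p = p
        rw [mul_smul, mul_smul, inv_smul_eq_iff.2 hrp.symm, ← hρ k, hkp, hrp]
      have hd2 : ρ (cr k) * (ρ k)⁻¹ ∈ twoPt M c t := by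
        refine mul_mem (mem_twoPt.2 ⟨hrk c hrc hk2.1, hrk _ hfix hk2.2⟩) (inv_mem ?_)
        exact mem_twoPt.2 hk2
      refine mul_inv_eq_one.1 (eq_one_of_trivial_mod hS h2 hZQ hd2 fun q hq => ?_)
      -- compute on `Q`
      have hkc : (ρ k)⁻¹ • c = c := inv_smul_eq_iff.2 hk2.1.symm
      obtain ⟨x, hx, hxq⟩ := hQlift _ (hQ.conj _ (mem_stabilizer_iff.2 hkc) q hq)
      rw [inv_inv] at hxq
      -- `x = k⁻¹ q k`, pulled back by `r`
      have hxr : (r⁻¹ * (x : G) * r) ∈ (T : Subgroup G) := mul_mem (mul_mem (inv_mem hrT) hx) hrT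
      set x' : L := tr x with hx'
      obtain ⟨z, hz, hzx⟩ := htriv x' hxr
      have hcx : cr x' = x := Subtype.ext (by
        show r * (r⁻¹ * (x : G) * r) * r⁻¹ = x
        group)
      rw [hcx] at hzx
      obtain ⟨y, hy, hyq⟩ := hQlift _ (hQ.conj _ (mem_stabilizer_iff.2 hk2.1) _ (hinQ x' hxr))
      obtain ⟨z', hz', hzy⟩ := htriv y hy
      have hz1 : ρ k * z * (ρ k)⁻¹ ∈ Zsub M c := Zsub_conj hS h2 hk2.1 hz
      have e1 : q = ρ y * (ρ k * z * (ρ k)⁻¹) := by
        have : q = ρ k * ρ x * (ρ k)⁻¹ := by rw [hxq]; group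
        rw [this, hyq, hzx]; group
      have e2 : ρ (cr k) * (ρ k)⁻¹ * q * (ρ (cr k) * (ρ k)⁻¹)⁻¹ = ρ (cr y) := by
        have hck : ∀ u v : L, ρ (cr (u * v)) = ρ (cr u) * ρ (cr v) := fun u v => by
          rw [← map_mul]
          exact congrArg ρ (Subtype.ext (by
            show r * ((u : G) * v) * r⁻¹ = r * u * r⁻¹ * (r * v * r⁻¹)
            group))
        have hck' : ∀ u : L, ρ (cr u⁻¹) = (ρ (cr u))⁻¹ := fun u => by
          rw [← map_inv]
          exact congrArg ρ (Subtype.ext (by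
            show r * (u : G)⁻¹ * r⁻¹ = (r * u * r⁻¹)⁻¹
            group))
        have hky : ρ y = ρ (k * x' * k⁻¹) := by rw [map_mul, map_mul, map_inv]; exact hyq
        have hky' : ρ (cr y) = ρ (cr (k * x' * k⁻¹)) := by
          have hmem := hρker hky
          have hmem' : ((cr y : L) : G)⁻¹ * (cr (k * x' * k⁻¹) : L) ∈ N := by
            have := (inferInstance : N.Normal).conj_mem _ hmem r
            convert this using 1
            show (r * (y : G) * r⁻¹)⁻¹ * (r * ((k * x' * k⁻¹ : L) : G) * r⁻¹) = _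
            group
          refine Subtype.ext ?_
          show π _ = π _
          have := MonoidHom.mem_ker.1 hmem'.2
          rwa [map_mul, map_inv, inv_mul_eq_one] at this
        rw [hky', hck, hck, hck', hcx, hxq]
        group
      rw [e2, hzy, e1]
      have hc1 := Zsub_comm hS h2 hz1 (hinQ y hy)
      rw [mul_inv_rev, show (ρ k * z * (ρ k)⁻¹)⁻¹ * (ρ y)⁻¹ * (ρ y * z') =
        (ρ k * z * (ρ k)⁻¹)⁻¹ * z' by group]
      exact mul_mem (inv_mem hz1) hz'
    obtain ⟨k₀, hk₀, hk₀1⟩ := exists_Ksub_ne_one hS h2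
    obtain ⟨k, rfl⟩ := hρsurj k₀
    have hkr := hcomm k hk₀
    have hkc := (mem_twoPt.1 (RankOneTwo.Ksub_le hS h2 hk₀)).1
    obtain ⟨l1, hl1, hl1e⟩ := hQlift _ (hQ.conj _ (mem_stabilizer_iff.2 hkc) _ (hinQ l hl))
    -- `z = s * l * l1⁻¹` is fused to `s`
    set z := r * (l1 : G)⁻¹ with hz
    have hzS : z ∈ S := by
      refine hclosed s hs k z (mul_mem hrT (inv_mem hl1)) ?_
      have hkL : ((k : G) * s * (k : G)⁻¹) * s⁻¹ ∈ L := by
        rw [show (k : G) * s * (k : G)⁻¹ * s⁻¹ = (k : G) * (s * (k : G)⁻¹ * s⁻¹) by group]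
        exact L.mul_mem k.2 (hLn.conj_mem _ (L.inv_mem k.2) s)
      refine Subgroup.mem_inf.2 ⟨?_, MonoidHom.mem_ker.2 ?_⟩
      · rw [hz, hr, show (s * (l : G) * (l1 : G)⁻¹)⁻¹ * ((k : G) * s * (k : G)⁻¹) =
          (l1 : G) * (l : G)⁻¹ * (s⁻¹ * ((k : G) * s * (k : G)⁻¹ * s⁻¹) * s) by group]
        exact L.mul_mem (L.mul_mem l1.2 (L.inv_mem l.2)) (by simpa using hLn.conj_mem _ hkL s⁻¹)
      · have hπr : π r * π (k : G) * (π r)⁻¹ = π (k : G) := by
          rw [← map_inv, ← map_mul, ← map_mul]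
          exact congrArg Subtype.val hkr
        have hπl : π (l1 : G) = π (k : G) * π (l : G) * (π (k : G))⁻¹ := congrArg Subtype.val hl1e
        have hπs' : π s = π r * (π (l : G))⁻¹ := by rw [← map_inv, ← map_mul, hr, mul_inv_cancel_right]
        have eA : π z = π r * (π (l1 : G))⁻¹ := by rw [hz, map_mul, map_inv]
        have eB : π ((k : G) * s * (k : G)⁻¹) = π (k : G) * π s * (π (k : G))⁻¹ := by
          rw [map_mul, map_mul, map_inv]
        rw [map_mul, map_inv, eA, eB, hπl, hπs']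
        calc (π r * (π (k : G) * π (l : G) * (π (k : G))⁻¹)⁻¹)⁻¹ *
              (π (k : G) * (π r * (π (l : G))⁻¹) * (π (k : G))⁻¹)
            = (π (k : G) * π (l : G) * (π (k : G))⁻¹) * ((π r)⁻¹ * π (k : G) * π r) *
              (π (l : G))⁻¹ * (π (k : G))⁻¹ := by group
          _ = 1 := by
            rw [show (π r)⁻¹ * π (k : G) * π r = π (k : G) by
              conv_lhs => rw [← hπr]
              group]
            group
    have hll : (l : G) * (l1 : G)⁻¹ ∈ S := by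
      have := S.mul_mem (S.inv_mem hs) hzS
      rwa [hz, hr, show s⁻¹ * (s * (l : G) * (l1 : G)⁻¹) = (l : G) * (l1 : G)⁻¹ by group] at this
    have hllZ : ρ l * (ρ k * ρ l * (ρ k)⁻¹)⁻¹ ∈ Zsub M c := by
      rw [← hl1e, ← map_inv, ← map_mul, ← hZ]
      exact ⟨l * l1⁻¹, hll, rfl⟩
    rw [hZ]
    by_contra hlZ
    refine hk₀1 (eq_one_of_fix_mod hS h2 hk₀ (hinQ l hl) hlZ ?_)
    set w := ρ k * ρ l * (ρ k)⁻¹ with hw
    have hwQ : w ∈ Q := hQ.conj _ (mem_stabilizer_iff.2 hkc) _ (hinQ l hl)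
    rw [show (ρ l)⁻¹ * w = w⁻¹ * (ρ l * w⁻¹)⁻¹ * w by group,
      mul_assoc, Zsub_comm hS h2 (inv_mem hllZ) hwQ, inv_mul_cancel_left]
    exact inv_mem hllZ
  obtain ⟨hSL, hcases⟩ := hSL
  -- `L` is the normal closure
  have hX : Subgroup.normalClosure (S : Set G) = L := by
    refine le_antisymm (Subgroup.normalClosure_le_normal hSL) ((Subgroup.closure_le _).2 ?_)
    rintro _ ⟨g, s, hs, -, rfl⟩
    exact Subgroup.normalClosure_normal.conj_mem s (Subgroup.subset_normalClosure hs) g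
  rw [hX]
  refine ⟨Cfg.stronglyEmbedded (fun hle => ?_) ?_ (fun x hxL hx2 hxH g hgL hgx => ?_), ?_⟩
  · obtain ⟨y, hy⟩ := hone.nontriv c
    obtain ⟨m, hm⟩ := hone.trans c y
    obtain ⟨g, rfl⟩ := hρsurj m
    exact hy (by rw [← hm, hρ, hfixc.2 (hle g.2)])
  · obtain ⟨s, hs, -, -, hs2, -⟩ := hfour
    exact ⟨s, hSL hs, hd.le hs, hs2⟩
  · by_contra hg
    refine hbad x hxL ⟨hx2, c, (g : G ⧸ H), fun e => hg ?_, hfixc.2 hxH, (hsm x g).2 hgx⟩
    simpa [hc] using QuotientGroup.eq.1 e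
  rcases hcases with hZ | hQ'
  · right
    rw [Cfsg.omegaOne]
    refine le_antisymm (fun s hs => Subgroup.subset_closure ?_) ((Subgroup.closure_le S).2 ?_)
    · refine ⟨⟨h.closed.1 hs, hSL hs⟩, ?_⟩
      have h1 : ρ ⟨s, hSL hs⟩ * ρ ⟨s, hSL hs⟩ = 1 := Zsub_sq hS h2 (hZ ▸ ⟨⟨s, hSL hs⟩, hs, rfl⟩)
      rw [← map_mul, ← map_one ρ] at h1
      rw [pow_two]
      exact congrArg Subtype.val (hinjT _ _ (mul_mem (h.closed.1 hs) (h.closed.1 hs)) (one_mem _) h1)
    · rintro x ⟨⟨hxT, hxL⟩, hx2⟩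
      by_cases hx1 : x = 1
      · rw [hx1]; exact S.one_mem
      exact hinvS x hxL hxT (orderOf_eq_prime hx2 hx1)
  · left
    exact le_antisymm (fun s hs => ⟨h.closed.1 hs, hSL hs⟩)
      fun x hx => hS1mem ⟨x, hx.2⟩ hx.1 (hQ'.symm ▸ hinQ ⟨x, hx.2⟩ hx.1)

end CfsgLib.StrongClosed75
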